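import Groth.Agent.L18.CharpolyIntegral
import Mathlib.RingTheory.Norm.Basic
import Mathlib.RingTheory.Polynomial.IsIntegral
import Mathlib.RingTheory.TensorProduct.Finite
import Mathlib.LinearAlgebra.Matrix.Basis

/-!
Characteristic polynomials of generic linear combinations of commuting matrices.
-/

set_option autoImplicit false
set_option linter.style.haveILetI false
universe u

open Polynomial

noncomputable section

namespace Groth.L06.FiniteModel

variable {R R' : Type u} [CommRing R] [CommRing R'] {n k k' : ℕ}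

/-- The generic linear combination. -/
def MT (M : Fin k → Matrix (Fin n) (Fin n) R) : Matrix (Fin n) (Fin n) (MvPolynomial (Fin k) R) :=
  ∑ i, (MvPolynomial.X i : MvPolynomial (Fin k) R) • (M i).map MvPolynomial.C

/-- A power of the characteristic polynomial of the generic linear combination. -/
def GP (M : Fin k → Matrix (Fin n) (Fin n) R) (e : ℕ) : Polynomial (MvPolynomial (Fin k) R) :=
  (MT M).charpoly ^ e

theorem MT_map {S : Type u} [CommRing S] (M : Fin k → Matrix (Fin n) (Fin n) R)
    (φ : MvPolynomial (Fin k) R →+* S) :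
    (MT M).map φ = ∑ i, φ (MvPolynomial.X i) • (M i).map (fun a => φ (MvPolynomial.C a)) := by
  ext a b
  simp [MT, Matrix.sum_apply]

theorem GP_map_eq {S : Type u} [CommRing S] (M : Fin k → Matrix (Fin n) (Fin n) R) (e : ℕ)
    (φ : MvPolynomial (Fin k) R →+* S) :
    (GP M e).map φ = ((MT M).map φ).charpoly ^ e := by
  rw [GP, Polynomial.map_pow, Matrix.charpoly_map]

/-- The substitution of linear forms. -/
def substHom (ρ : R →+* R') (z : Fin k' → Fin k → R') :
    MvPolynomial (Fin k) R →+* MvPolynomial (Fin k') R' :=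
  MvPolynomial.eval₂Hom (MvPolynomial.C.comp ρ) fun i => ∑ j, MvPolynomial.C (z j i) * MvPolynomial.X j

theorem GP_subst (ρ : R →+* R') (z : Fin k' → Fin k → R') (M : Fin k → Matrix (Fin n) (Fin n) R)
    (M' : Fin k' → Matrix (Fin n) (Fin n) R') (h : ∀ j, M' j = ∑ i, z j i • (M i).map ρ) (e : ℕ) :
    (GP M e).map (substHom ρ z) = GP M' e := by
  rw [GP_map_eq, GP, MT_map]
  congr 2
  refine Matrix.ext fun a b => ?_
  simp only [substHom, MvPolynomial.eval₂Hom_X', MvPolynomial.eval₂Hom_C, RingHom.comp_apply, MT, h,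
    Matrix.sum_apply, Matrix.smul_apply, Matrix.map_apply, smul_eq_mul, map_sum, map_mul, Finset.sum_mul,
    Finset.mul_sum]
  rw [Finset.sum_comm]
  exact Finset.sum_congr rfl fun j _ => Finset.sum_congr rfl fun i _ => by ring

theorem GP_eval (ρ : R →+* R') (z : Fin k → R') (M : Fin k → Matrix (Fin n) (Fin n) R) (e : ℕ) :
    (GP M e).map (MvPolynomial.eval₂Hom ρ z) = (∑ i, z i • (M i).map ρ).charpoly ^ e := by
  rw [GP_map_eq, MT_map]
  congr 2
  simp

theorem MT_conj (P : (Matrix (Fin n) (Fin n) R)ˣ) (M : Fin k → Matrix (Fin n) (Fin n) R) :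
    MT (fun i => P.val * M i * P⁻¹.val) =
      (P.val.map MvPolynomial.C) * MT M * (P⁻¹.val.map MvPolynomial.C) := by
  simp only [MT, Finset.mul_sum, Finset.sum_mul]
  refine Finset.sum_congr rfl fun i _ => ?_
  rw [Matrix.mul_smul, Matrix.smul_mul]
  refine congrArg _ ?_
  show (MvPolynomial.C (σ := Fin k) (R := R)).mapMatrix (P.val * M i * P⁻¹.val) = _
  rw [map_mul, map_mul]
  rfl

theorem GP_conj (P : (Matrix (Fin n) (Fin n) R)ˣ) (M : Fin k → Matrix (Fin n) (Fin n) R) (e : ℕ) :
    GP (fun i => P.val * M i * P⁻¹.val) e = GP M e := by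
  rw [GP, GP, MT_conj]
  refine congrArg (· ^ e) ?_
  rw [Matrix.charpoly_mul_comm, ← mul_assoc, ← Matrix.map_mul, Units.inv_mul,
    Matrix.map_one _ (map_zero _) (map_one _), one_mul]

/-- The coefficients of a double polynomial lie in a set. -/
def CoeffsIn {σ : Type} (S : Set R) (Q : Polynomial (MvPolynomial σ R)) : Prop :=
  ∀ i α, (Q.coeff i).coeff α ∈ S

/-- Polynomials with coefficients in a subring. -/
def polyIn (σ : Type) (S : Subring R) : Subring (MvPolynomial σ R) where
  carrier := {f | ∀ α, f.coeff α ∈ S}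
  mul_mem' {f g} hf hg α := by
    classical
    rw [MvPolynomial.coeff_mul]
    exact sum_mem fun x _ => mul_mem (hf _) (hg _)
  one_mem' α := by
    classical
    rw [MvPolynomial.coeff_one]
    split_ifs
    exacts [one_mem _, zero_mem _]
  add_mem' {f g} hf hg α := by rw [MvPolynomial.coeff_add]; exact add_mem (hf _) (hg _)
  zero_mem' α := by rw [MvPolynomial.coeff_zero]; exact zero_mem _
  neg_mem' {f} hf α := by rw [MvPolynomial.coeff_neg]; exact neg_mem (hf _)

theorem eval₂Hom_mem {σ : Type} {S : Type u} [CommRing S] (T : Subring S) (ρ : R →+* S) (z : σ → S)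
    (f : MvPolynomial σ R) (hf : ∀ α, ρ (f.coeff α) ∈ T) (hz : ∀ i, z i ∈ T) :
    MvPolynomial.eval₂Hom ρ z f ∈ T := by
  rw [MvPolynomial.coe_eval₂Hom, MvPolynomial.eval₂_eq]
  exact sum_mem fun α _ => mul_mem (hf α) (prod_mem fun i _ => pow_mem (hz i) _)

theorem coeffsIn_subst (S : Subring R') (ρ : R →+* R') (z : Fin k' → Fin k → R')
    (Q : Polynomial (MvPolynomial (Fin k) R)) (hQ : ∀ i α, ρ ((Q.coeff i).coeff α) ∈ S)
    (hz : ∀ j i, z j i ∈ S) : CoeffsIn (S : Set R') (Q.map (substHom ρ z)) := by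
  classical
  intro i α
  rw [Polynomial.coeff_map]
  refine eval₂Hom_mem (polyIn (Fin k') S) _ _ _ (fun β γ => ?_) (fun l => ?_) α
  · rw [RingHom.comp_apply, MvPolynomial.coeff_C]
    split_ifs
    exacts [hQ i β, zero_mem _]
  · refine sum_mem fun j _ => mul_mem (fun γ => ?_) (fun γ => ?_)
    · rw [MvPolynomial.coeff_C]
      split_ifs
      exacts [hz j l, zero_mem _]
    · rw [MvPolynomial.coeff_X]
      split_ifs
      exacts [one_mem _, zero_mem _]

section Basis

variable {S S' : Type u} [CommRing S] [CommRing S'] [Algebra R S] [Algebra R' S']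

theorem leftMulMatrix_map {ι : Type} [Fintype ι] [DecidableEq ι] (c : Module.Basis ι R S)
    (c' : Module.Basis ι R' S') (f : R →+* R') (g : S →+* S')
    (hfg : ∀ r, g (algebraMap R S r) = algebraMap R' S' (f r)) (hc : ∀ i, g (c i) = c' i) (x : S) :
    Algebra.leftMulMatrix c' (g x) = (Algebra.leftMulMatrix c x).map f := by
  have hg : ∀ y : S, g y = ∑ k, f (c.repr y k) • c' k := fun y => by
    conv_lhs => rw [← c.sum_repr y]
    rw [map_sum]
    refine Finset.sum_congr rfl fun k _ => ?_
    rw [Algebra.smul_def, map_mul, hfg, hc, ← Algebra.smul_def]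
  ext i j
  rw [Matrix.map_apply, Algebra.leftMulMatrix_eq_repr_mul,
    Algebra.leftMulMatrix_eq_repr_mul, ← hc, ← map_mul, hg]
  exact congrFun (c'.repr_sum_self fun k => f (c.repr (x * c j) k)) i

theorem exists_conj (b b' : Module.Basis (Fin n) R S) :
    ∃ P : (Matrix (Fin n) (Fin n) R)ˣ, ∀ x,
      Algebra.leftMulMatrix b' x = P.val * Algebra.leftMulMatrix b x * P⁻¹.val := by
  refine ⟨⟨b'.toMatrix b, b.toMatrix b', Module.Basis.toMatrix_mul_toMatrix_flip _ _,
    Module.Basis.toMatrix_mul_toMatrix_flip _ _⟩, fun x => ?_⟩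
  exact (basis_toMatrix_mul_linearMap_toMatrix_mul_basis_toMatrix b' b b' b (Algebra.lmul R S x)).symm

end Basis

theorem isIntegral_coeff_pow {A B : Type u} [CommRing A] [CommRing B] [Algebra A B] {p : B[X]}
    (hp : ∀ i, IsIntegral A (p.coeff i)) (e i : ℕ) : IsIntegral A ((p ^ e).coeff i) := by
  have h : p ∈ Polynomial.lifts (algebraMap (integralClosure A B) B) :=
    (Polynomial.lifts_iff_coeff_lifts p).2 fun j => ⟨⟨_, hp j⟩, rfl⟩
  obtain ⟨⟨y, hy⟩, e'⟩ := (Polynomial.lifts_iff_coeff_lifts _).1 (pow_mem h e) i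
  rw [← e']
  exact hy

attribute [local instance] MvPolynomial.algebraMvPolynomial in
theorem isIntegral_coeff_GP {A B K : Type u} [CommRing A] [CommRing B] [Field K] [Algebra A B]
    [Module.Finite A B] [Algebra A K] (ψ : B →ₐ[A] Matrix (Fin n) (Fin n) K) (s : Fin k → B) (e i : ℕ)
    (α : Fin k →₀ ℕ) : IsIntegral A (((GP (fun l => ψ (s l)) e).coeff i).coeff α) := by
  classical
  let PA := MvPolynomial (Fin k) A
  let PK := MvPolynomial (Fin k) K
  haveI : IsScalarTower A PA PK := IsScalarTower.of_algebraMap_eq fun a =>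
    (MvPolynomial.map_C (algebraMap A K) a).symm
  let g : B →ₐ[A] Matrix (Fin n) (Fin n) PK := (IsScalarTower.toAlgHom A K PK).mapMatrix.comp ψ
  let Φ : TensorProduct A PA B →ₐ[PA] Matrix (Fin n) (Fin n) PK :=
    Algebra.TensorProduct.lift (Algebra.ofId PA _) g fun a b => Algebra.commute_algebraMap_left a (g b)
  let θ : TensorProduct A PA B := ∑ l, (MvPolynomial.X l : PA) ⊗ₜ[A] s l
  have hθ : Φ θ = MT fun l => ψ (s l) := by
    simp only [θ, map_sum, Φ, MT]
    refine Finset.sum_congr rfl fun l _ => ?_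
    refine (Algebra.TensorProduct.lift_tmul _ _ _ _ _).trans ?_
    show algebraMap PA (Matrix (Fin n) (Fin n) PK) (MvPolynomial.X l) * _ = _
    rw [← Algebra.smul_def, ← algebraMap_smul PK (MvPolynomial.X l : PA)]
    refine congrArg₂ (· • ·) (MvPolynomial.map_X _ _) rfl
  obtain ⟨p₀, hp₀, hp₀θ⟩ := IsIntegral.of_finite PA θ
  have h0 : aeval (MT fun l => ψ (s l)) p₀ = 0 := by
    rw [← hθ, aeval_algHom_apply, aeval_def, hp₀θ, map_zero]
  let L := FractionRing PK
  let φ : PK →ₐ[PA] L := IsScalarTower.toAlgHom PA PK L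
  have h1 : aeval (φ.mapMatrix ((MT fun l => ψ (s l)).submatrix (Equiv.ulift.{u} : ULift.{u} (Fin n) ≃ Fin n)
      Equiv.ulift)) p₀ = 0 := by
    have h2 := aeval_algHom_apply
      (Matrix.reindexAlgEquiv PA PK (Equiv.ulift.{u}.symm : Fin n ≃ ULift.{u} (Fin n))).toAlgHom
      (MT fun l => ψ (s l)) p₀
    rw [h0, map_zero] at h2
    rw [aeval_algHom_apply]
    exact (congrArg φ.mapMatrix h2).trans (map_zero _)
  have hχ : ∀ j, IsIntegral PA ((MT fun l => ψ (s l)).charpoly.coeff j) := by
    intro j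
    have h3 := Groth.L18.Charpoly.isIntegral_coeff_of_aeval_field _ hp₀ h1 j
    rw [AlgHom.mapMatrix_apply, show ∀ M : Matrix (ULift.{u} (Fin n)) (ULift.{u} (Fin n)) PK,
      M.map φ = M.map φ.toRingHom from fun _ => rfl, Matrix.charpoly_map, coeff_map] at h3
    have h4 : ((MT fun l => ψ (s l)).submatrix (Equiv.ulift.{u} : ULift.{u} (Fin n) ≃ Fin n) Equiv.ulift).charpoly =
        (MT fun l => ψ (s l)).charpoly := Matrix.charpoly_reindex (Equiv.ulift.{u}.symm) _
    rw [h4] at h3
    exact (isIntegral_algHom_iff φ (IsFractionRing.injective PK L)).1 h3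
  exact (MvPolynomial.isIntegral_iff_isIntegral_coeff.1 (isIntegral_coeff_pow hχ e i)) α

/-- Clearing a denominator of an element integral over a domain normal at a prime. -/
theorem exists_denominator {A R : Type u} [CommRing A] [IsDomain A] [CommRing R] [Algebra A R] {r : A} (hr : r ≠ 0)
    [IsLocalization.Away r R] (p : Ideal A) [p.IsPrime] [IsIntegrallyClosed (Localization.AtPrime p)]
    {c : R} (hc : IsIntegral A c) :
    ∃ (t a : A), t ∉ p ∧ algebraMap A R a = algebraMap A R t * c := by
  let K := FractionRing A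
  have hunit : IsUnit (algebraMap A K r) :=
    IsUnit.mk0 _ ((map_ne_zero_iff _ (IsFractionRing.injective A K)).2 hr)
  let ψ₀ : R →+* K := IsLocalization.Away.lift r hunit
  have hψ : Function.Injective ψ₀ := by
    rw [injective_iff_map_eq_zero]
    intro z hz
    obtain ⟨k, a, hka⟩ := IsLocalization.Away.surj r z
    have h1 := congrArg ψ₀ hka
    rw [map_mul, hz, zero_mul, IsLocalization.Away.lift_eq r hunit] at h1
    rw [(map_eq_zero_iff _ (IsFractionRing.injective A K)).1 h1.symm, map_zero] at hka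
    exact ((IsLocalization.Away.algebraMap_isUnit (S := R) r).pow k).mul_left_eq_zero.1 hka
  let ψ : R →ₐ[A] K := { ψ₀ with commutes' := fun a => IsLocalization.Away.lift_eq r hunit a }
  letI : Algebra (Localization.AtPrime p) K :=
    IsLocalization.localizationAlgebraOfSubmonoidLe (Localization.AtPrime p) K p.primeCompl (nonZeroDivisors A)
      (fun x hx => mem_nonZeroDivisors_of_ne_zero fun h => hx (h ▸ p.zero_mem))
  haveI : IsScalarTower A (Localization.AtPrime p) K :=
    IsLocalization.localization_isScalarTower_of_submonoid_le (Localization.AtPrime p) K p.primeCompl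
      (nonZeroDivisors A) (fun x hx => mem_nonZeroDivisors_of_ne_zero fun h => hx (h ▸ p.zero_mem))
  haveI : IsFractionRing (Localization.AtPrime p) K :=
    IsFractionRing.isFractionRing_of_isDomain_of_isLocalization p.primeCompl (Localization.AtPrime p) K
  obtain ⟨z, hz⟩ := IsIntegrallyClosed.isIntegral_iff.1 ((hc.map ψ).tower_top (A := Localization.AtPrime p))
  obtain ⟨⟨a, t⟩, hat⟩ := IsLocalization.surj p.primeCompl z
  refine ⟨t.1, a, t.2, hψ ?_⟩
  have h1 := congrArg (algebraMap (Localization.AtPrime p) K) hat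
  rw [map_mul, hz, ← IsScalarTower.algebraMap_apply, ← IsScalarTower.algebraMap_apply] at h1
  rw [show ψ₀ = (ψ : R →+* K) from rfl]
  simp only [RingHom.coe_coe, map_mul, AlgHom.commutes]
  rw [← h1, mul_comm]

end Groth.L06.FiniteModel
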