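import Groth.Agent.L06.FiniteModel.Alg
import Groth.Agent.L18.NormMixed

/-!
The algebra generated by the coefficients of generic characteristic polynomials of a finite surjective morphism.
-/

set_option autoImplicit false
set_option backward.isDefEq.respectTransparency false
set_option backward.isDefEq.respectTransparency.types false
set_option linter.style.haveILetI false
set_option linter.unusedSectionVars false
universe u

open CategoryTheory CategoryTheory.Limits AlgebraicGeometry TopologicalSpace Opposite Polynomial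

noncomputable section

namespace Groth.L06.FiniteModel

open Groth.L18.NormFree Groth.L18.NormMixed

/-- Restriction of sections as a ring homomorphism. -/
abbrev rh {X : Scheme.{u}} {U V : X.Opens} (h : V ≤ U) : Γ(X, U) →+* Γ(X, V) :=
  (X.presheaf.map (homOfLE h).op).hom

theorem rh_rh {X : Scheme.{u}} {U V W : X.Opens} (h : V ≤ U) (h' : W ≤ V) (a : Γ(X, U)) :
    rh h' (rh h a) = rh (h'.trans h) a :=
  Groth.L18.Frame.ro_ro h h' a

theorem rh_comp {X : Scheme.{u}} {U V W : X.Opens} (h : V ≤ U) (h' : W ≤ V) :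
    (rh h').comp (rh h) = rh (h'.trans h) :=
  RingHom.ext (rh_rh h h')

theorem rh_self {X : Scheme.{u}} {U : X.Opens} (h : U ≤ U) (a : Γ(X, U)) : rh h a = a :=
  Groth.L18.Frame.ro_self h a

theorem pre_le {X Y : Scheme.{u}} (π : X ⟶ Y) {U V : Y.Opens} (h : V ≤ U) : π ⁻¹ᵁ V ≤ π ⁻¹ᵁ U :=
  fun _ hx => h hx

theorem app_rh {X Y : Scheme.{u}} {π : X ⟶ Y} {U V : Y.Opens} (h : V ≤ U) (a : Γ(Y, U)) :
    π.app V (rh h a) = rh (pre_le π h) (π.app U a) :=
  app_ro h a

/-- A function vanishing near all generic points of its domain vanishes. -/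
theorem eq_zero_of_generic {X : Scheme.{u}} [IsReduced X] {O O' : X.Opens} (h : O' ≤ O) {d : Γ(X, O)}
    (hgen : ∀ η ∈ genericPoints X, η ∈ O → η ∈ O') (hd : rh h d = 0) : d = 0 := by
  refine (basicOpen_eq_bot_iff _).1 (le_bot_iff.1 fun z hz => ?_)
  obtain ⟨η, hη, hηz⟩ := exists_genericPoint_specializes z
  have h1 := hηz.mem_open (X.basicOpen d).2 hz
  have h2 := congrArg X.basicOpen hd
  rw [Scheme.basicOpen_zero, show X.basicOpen (rh h d) = _ from Scheme.basicOpen_res X d _] at h2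
  exact (h2.le ⟨hgen η hη (X.basicOpen_le d h1), h1⟩).elim

theorem eq_of_generic {X : Scheme.{u}} [IsReduced X] {O O' : X.Opens} (h : O' ≤ O) {c d : Γ(X, O)}
    (hgen : ∀ η ∈ genericPoints X, η ∈ O → η ∈ O') (hd : rh h c = rh h d) : c = d :=
  sub_eq_zero.1 (eq_zero_of_generic h hgen (by rw [map_sub, hd, sub_self]))

theorem subsingleton_of_eq_bot {X : Scheme.{u}} {U : X.Opens} (h : U = ⊥) : Subsingleton Γ(X, U) := by
  subst h; infer_instance

variable {X X' : Scheme.{u}} (g : X' ⟶ X)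

/-- A good basis near each generic point, the opens isolating the generic points. -/
structure Charts where
  /-- the ranks -/
  n : genericPoints X → ℕ
  /-- the opens -/
  V : genericPoints X → X.Opens
  mem : ∀ a, a.1 ∈ V a
  uniq : ∀ a b : genericPoints X, b.1 ∈ V a → b = a
  /-- the bases -/
  c : ∀ a, Fin (n a) → Γ(X', g ⁻¹ᵁ V a)
  good : ∀ a, IsGoodBasis g (c a)

theorem exists_charts [IsNoetherian X] [IsReduced X] [IsFinite g] : Nonempty (Charts g) := by
  choose V n c hV hc using fun a : genericPoints X => exists_goodBasis_genericPoint (π := g) a.2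
  haveI : Finite (genericPoints X) := finite_genericPoints.to_subtype
  let bad : genericPoints X → Set X := fun a => ⋃ b : {b : genericPoints X // b ≠ a}, closure {b.1.1}
  have hbad : ∀ a, IsClosed (bad a) := fun a => isClosed_iUnion_of_finite fun _ => isClosed_closure
  let W : genericPoints X → X.Opens := fun a => V a ⊓ ⟨(bad a)ᶜ, (hbad a).isOpen_compl⟩
  have hW : ∀ a, W a ≤ V a := fun a => inf_le_left
  have hmem : ∀ a, a.1 ∈ W a := fun a => ⟨hV a, fun h => by
    obtain ⟨b, hb⟩ := Set.mem_iUnion.1 h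
    exact b.2 (Subtype.ext (eq_of_specializes_genericPoint a.2 (specializes_iff_mem_closure.2 hb)))⟩
  have huniq : ∀ a b : genericPoints X, b.1 ∈ W a → b = a := fun a b hb => by
    by_contra hne
    exact hb.2 (Set.mem_iUnion.2 ⟨⟨b, hne⟩, subset_closure rfl⟩)
  exact ⟨{ n := n, V := W, mem := hmem, uniq := huniq
           c := fun a i => rh (pre_le g (hW a)) (c a i), good := fun a => goodBasis_res (hc a) (hW a) }⟩

variable {g} (C : Charts g)

namespace Charts

theorem disjoint {a b : genericPoints X} (h : a ≠ b) : C.V a ⊓ C.V b = ⊥ := by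
  refine le_bot_iff.1 fun z hz => ?_
  obtain ⟨η, hη, hηz⟩ := exists_genericPoint_specializes z
  exact (h ((C.uniq a ⟨η, hη⟩ (hηz.mem_open (C.V a).2 hz.1)).symm.trans
    (C.uniq b ⟨η, hη⟩ (hηz.mem_open (C.V b).2 hz.2)))).elim

/-- The union of the charts. -/
def Vt : X.Opens := ⨆ a, C.V a

theorem le_Vt (a : genericPoints X) : C.V a ≤ C.Vt := le_iSup C.V a

theorem generic_mem_Vt {η : X} (hη : η ∈ genericPoints X) : η ∈ C.Vt := C.le_Vt ⟨η, hη⟩ (C.mem ⟨η, hη⟩)

theorem dense_Vt : Dense (C.Vt : Set X) := fun y => by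
  obtain ⟨η, hη, hηy⟩ := exists_genericPoint_specializes y
  exact closure_mono (Set.singleton_subset_iff.2 (C.generic_mem_Vt hη)) (specializes_iff_mem_closure.1 hηy)

theorem rh_injective [IsReduced X] (U : X.Opens) :
    Function.Injective (rh (inf_le_left : U ⊓ C.Vt ≤ U)) := fun _ _ h =>
  eq_of_generic (inf_le_left : U ⊓ C.Vt ≤ U) (fun _ hη hU => ⟨hU, C.generic_mem_Vt hη⟩) h

/-- Restriction to a chart. -/
def resA (U : X.Opens) (a : genericPoints X) : Γ(X, U ⊓ C.Vt) →+* Γ(X, U ⊓ C.V a) :=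
  rh (inf_le_inf_left U (C.le_Vt a))

theorem ext_resA {U : X.Opens} {c d : Γ(X, U ⊓ C.Vt)} (h : ∀ a, C.resA U a c = C.resA U a d) : c = d :=
  X.sheaf.eq_of_locally_eq' (fun a => U ⊓ C.V a) (U ⊓ C.Vt) (fun a => homOfLE (inf_le_inf_left U (C.le_Vt a)))
    (by rw [← inf_iSup_eq]; exact le_rfl) c d h

theorem exists_eps (U : X.Opens) (a : genericPoints X) :
    ∃ ε : Γ(X, U ⊓ C.Vt), C.resA U a ε = 1 ∧ ∀ b, b ≠ a → C.resA U b ε = 0 := by
  classical
  obtain ⟨ε, hε, -⟩ := X.sheaf.existsUnique_gluing' (fun b => U ⊓ C.V b) (U ⊓ C.Vt)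
    (fun b => homOfLE (inf_le_inf_left U (C.le_Vt b))) (by rw [← inf_iSup_eq]; exact le_rfl)
    (fun b => if b = a then 1 else 0) fun b b' => by
      by_cases hbb : b = b'
      · subst hbb; rfl
      · haveI := subsingleton_of_eq_bot (X := X) (U := (U ⊓ C.V b) ⊓ (U ⊓ C.V b'))
          (le_bot_iff.1 ((inf_le_inf inf_le_right inf_le_right).trans (C.disjoint hbb).le))
        exact Subsingleton.elim (α := Γ(X, (U ⊓ C.V b) ⊓ (U ⊓ C.V b'))) _ _
  refine ⟨ε, ?_, fun b hb => ?_⟩
  · exact (hε a).trans (if_pos rfl)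
  · exact (hε b).trans (if_neg hb)

variable [IsNoetherian X] [IsReduced X] [IsFinite g] [Surjective g]

theorem n_pos (a : genericPoints X) : 0 < C.n a := by
  obtain ⟨x, hx⟩ := g.surjective a.1
  exact pos_rank (C.good a) (show g x ∈ C.V a by rw [hx]; exact C.mem a)

/-- The degree. -/
def m : ℕ :=
  haveI : Fintype (genericPoints X) := finite_genericPoints.fintype
  ∏ a, C.n a

theorem dvd_m (a : genericPoints X) : C.n a ∣ C.m :=
  @Finset.dvd_prod_of_mem _ _ _ C.n a _ (@Finset.mem_univ _ finite_genericPoints.fintype a)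

theorem m_pos : 0 < C.m :=
  haveI : Fintype (genericPoints X) := finite_genericPoints.fintype
  Finset.prod_pos fun a _ => C.n_pos a

/-- The exponent on a chart. -/
def e (a : genericPoints X) : ℕ := C.m / C.n a

theorem e_pos (a : genericPoints X) : 0 < C.e a :=
  Nat.div_pos (Nat.le_of_dvd C.m_pos (C.dvd_m a)) (C.n_pos a)

theorem n_mul_e (a : genericPoints X) : C.n a * C.e a = C.m := Nat.mul_div_cancel' (C.dvd_m a)

theorem exists_bas (a : genericPoints X) {W : X.Opens} (h : W ≤ C.V a) :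
    letI := (g.app W).hom.toAlgebra
    ∃ b : Module.Basis (Fin (C.n a)) Γ(X, W) Γ(X', g ⁻¹ᵁ W), ∀ i, b i = rh (pre_le g h) (C.c a i) :=
  (C.good a).basis h

/-- The matrices of multiplications. -/
def mat (a : genericPoints X) {W : X.Opens} (h : W ≤ C.V a) :
    Γ(X', g ⁻¹ᵁ W) →+* Matrix (Fin (C.n a)) (Fin (C.n a)) Γ(X, W) :=
  letI := (g.app W).hom.toAlgebra
  (Algebra.leftMulMatrix (C.exists_bas a h).choose).toRingHom

theorem mat_app (a : genericPoints X) {W : X.Opens} (h : W ≤ C.V a) (r : Γ(X, W)) :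
    C.mat a h (g.app W r) = algebraMap Γ(X, W) _ r :=
  letI := (g.app W).hom.toAlgebra
  (Algebra.leftMulMatrix (C.exists_bas a h).choose).commutes r

theorem mat_smul (a : genericPoints X) {W : X.Opens} (h : W ≤ C.V a) (r : Γ(X, W)) (s : Γ(X', g ⁻¹ᵁ W)) :
    C.mat a h (g.app W r * s) = r • C.mat a h s := by
  rw [map_mul, mat_app, Algebra.smul_def]

theorem mat_res (a : genericPoints X) {W W' : X.Opens} (h : W ≤ C.V a) (h' : W' ≤ W) (s : Γ(X', g ⁻¹ᵁ W)) :
    C.mat a (h'.trans h) (rh (pre_le g h') s) = (C.mat a h s).map (rh h') := by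
  letI := (g.app W).hom.toAlgebra
  letI := (g.app W').hom.toAlgebra
  refine leftMulMatrix_map (C.exists_bas a h).choose (C.exists_bas a (h'.trans h)).choose (rh h')
    (rh (pre_le g h')) (fun r => (app_rh h' r).symm) (fun i => ?_) s
  rw [(C.exists_bas a h).choose_spec, (C.exists_bas a (h'.trans h)).choose_spec]
  exact rh_rh _ _ _

/-- The matrices of a family of functions on a chart. -/
def mt {U : X.Opens} {k : ℕ} (s : Fin k → Γ(X', g ⁻¹ᵁ U)) (a : genericPoints X) :
    Fin k → Matrix (Fin (C.n a)) (Fin (C.n a)) Γ(X, U ⊓ C.V a) :=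
  fun i => C.mat a inf_le_right (rh (pre_le g inf_le_left) (s i))

theorem exists_Q {U : X.Opens} {k : ℕ} (s : Fin k → Γ(X', g ⁻¹ᵁ U)) :
    ∃ Q : Polynomial (MvPolynomial (Fin k) Γ(X, U ⊓ C.Vt)),
      ∀ a, Q.map (MvPolynomial.map (C.resA U a)) = GP (C.mt s a) (C.e a) := by
  classical
  haveI : Fintype (genericPoints X) := finite_genericPoints.fintype
  choose ε hε hε' using C.exists_eps U
  have hQ : ∀ a, ∃ Q : Polynomial (MvPolynomial (Fin k) Γ(X, U ⊓ C.Vt)),
      ∀ b, Q.map (MvPolynomial.map (C.resA U b)) =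
        if h : b = a then h ▸ GP (C.mt s a) (C.e a) else 0 := by
    intro a
    have hsurj : Function.Surjective (C.resA U a) := fun x => by
      obtain ⟨y, hy, -⟩ := X.sheaf.existsUnique_gluing' (fun b => U ⊓ C.V b) (U ⊓ C.Vt)
        (fun b => homOfLE (inf_le_inf_left U (C.le_Vt b))) (by rw [← inf_iSup_eq]; exact le_rfl)
        (fun b => if h : b = a then h ▸ x else 0) fun b b' => by
          by_cases hbb : b = b'
          · subst hbb; rfl
          · haveI := subsingleton_of_eq_bot (X := X) (U := (U ⊓ C.V b) ⊓ (U ⊓ C.V b'))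
              (le_bot_iff.1 ((inf_le_inf inf_le_right inf_le_right).trans (C.disjoint hbb).le))
            exact Subsingleton.elim (α := Γ(X, (U ⊓ C.V b) ⊓ (U ⊓ C.V b'))) _ _
      exact ⟨y, (hy a).trans (dif_pos rfl)⟩
    obtain ⟨Q', hQ'⟩ := Polynomial.map_surjective (MvPolynomial.map (σ := Fin k) (C.resA U a))
      (MvPolynomial.map_surjective _ hsurj) (GP (C.mt s a) (C.e a))
    refine ⟨Polynomial.C (MvPolynomial.C (ε a)) * Q', fun b => ?_⟩
    rw [Polynomial.map_mul, Polynomial.map_C, MvPolynomial.map_C]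
    by_cases h : b = a
    · subst h
      rw [hε, map_one, map_one, one_mul, hQ', dif_pos rfl]
    · rw [hε' a b h, map_zero, map_zero, zero_mul, dif_neg h]
  choose Q' hQ' using hQ
  refine ⟨∑ a, Q' a, fun b => ?_⟩
  rw [Polynomial.map_sum, Finset.sum_eq_single b]
  · rw [hQ', dif_pos rfl]
  · intro a _ hab
    rw [hQ', dif_neg (Ne.symm hab)]
  · simp

/-- The generic characteristic polynomial of a family. -/
def Q {U : X.Opens} {k : ℕ} (s : Fin k → Γ(X', g ⁻¹ᵁ U)) : Polynomial (MvPolynomial (Fin k) Γ(X, U ⊓ C.Vt)) :=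
  (C.exists_Q s).choose

theorem Q_spec {U : X.Opens} {k : ℕ} (s : Fin k → Γ(X', g ⁻¹ᵁ U)) (a : genericPoints X) :
    (C.Q s).map (MvPolynomial.map (C.resA U a)) = GP (C.mt s a) (C.e a) :=
  (C.exists_Q s).choose_spec a

theorem Q_ext {U : X.Opens} {k : ℕ} {P P' : Polynomial (MvPolynomial (Fin k) Γ(X, U ⊓ C.Vt))}
    (h : ∀ a, P.map (MvPolynomial.map (C.resA U a)) = P'.map (MvPolynomial.map (C.resA U a))) : P = P' := by
  refine Polynomial.ext fun i => MvPolynomial.ext _ _ fun α => C.ext_resA fun a => ?_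
  have h1 := congrArg (fun p => (p.coeff i).coeff α) (h a)
  simpa only [Polynomial.coeff_map, MvPolynomial.coeff_map] using h1

/-- Linear combinations substitute linear forms in the generic characteristic polynomial. -/
theorem Q_comb {U U' : X.Opens} (h : U' ≤ U) {k k' : ℕ} (s : Fin k → Γ(X', g ⁻¹ᵁ U))
    (s' : Fin k' → Γ(X', g ⁻¹ᵁ U')) (z : Fin k' → Fin k → Γ(X, U'))
    (hs : ∀ j, s' j = ∑ i, g.app U' (z j i) * rh (pre_le g h) (s i)) :
    C.Q s' = (C.Q s).map (substHom (rh (inf_le_inf_right C.Vt h)) fun j i => rh inf_le_left (z j i)) := by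
  refine C.Q_ext fun a => ?_
  have hle : U' ⊓ C.V a ≤ U ⊓ C.V a := inf_le_inf_right _ h
  have hcomp : (MvPolynomial.map (C.resA U' a)).comp
        (substHom (rh (inf_le_inf_right C.Vt h)) fun j i => rh inf_le_left (z j i)) =
      (substHom (rh hle) fun j i => rh (inf_le_left : U' ⊓ C.V a ≤ U') (z j i)).comp
        (MvPolynomial.map (C.resA U a)) := by
    refine MvPolynomial.ringHom_ext (fun c => ?_) (fun i => ?_)
    · simp only [RingHom.comp_apply, substHom, MvPolynomial.map_C, MvPolynomial.eval₂Hom_C, resA, rh_rh]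
    · simp only [RingHom.comp_apply, substHom, MvPolynomial.map_X, MvPolynomial.eval₂Hom_X', map_sum, map_mul,
        MvPolynomial.map_C, resA, rh_rh]
  rw [Polynomial.map_map, hcomp, ← Polynomial.map_map, Q_spec, Q_spec]
  refine (GP_subst _ _ _ _ (fun j => ?_) _).symm
  simp only [mt, hs, map_sum, map_mul]
  refine Finset.sum_congr rfl fun i _ => ?_
  rw [← map_mul, ← app_rh, C.mat_smul]
  refine congrArg _ ?_
  rw [← C.mat_res a inf_le_right hle, rh_rh, rh_rh]

/-- The coefficients of generic characteristic polynomials. -/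
def coefSet (U : X.Opens) : Set Γ(X, U ⊓ C.Vt) :=
  {c | ∃ (k : ℕ) (s : Fin k → Γ(X', g ⁻¹ᵁ U)) (i : ℕ) (α : Fin k →₀ ℕ), c = ((C.Q s).coeff i).coeff α}

/-- The algebra generated by those coefficients. -/
def sub (U : X.Opens) : Subring Γ(X, U ⊓ C.Vt) :=
  Subring.closure (Set.range (rh (inf_le_left : U ⊓ C.Vt ≤ U)) ∪ C.coefSet U)

theorem rh_mem_sub (U : X.Opens) (r : Γ(X, U)) : rh (inf_le_left : U ⊓ C.Vt ≤ U) r ∈ C.sub U :=
  Subring.subset_closure (Or.inl ⟨r, rfl⟩)

theorem coeff_mem_sub {U : X.Opens} {k : ℕ} (s : Fin k → Γ(X', g ⁻¹ᵁ U)) (i : ℕ) (α : Fin k →₀ ℕ) :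
    ((C.Q s).coeff i).coeff α ∈ C.sub U :=
  Subring.subset_closure (Or.inr ⟨k, s, i, α, rfl⟩)

theorem Q_res {U U' : X.Opens} (h : U' ≤ U) {k : ℕ} (s : Fin k → Γ(X', g ⁻¹ᵁ U)) :
    C.Q (fun j => rh (pre_le g h) (s j)) = (C.Q s).map (MvPolynomial.map (rh (inf_le_inf_right C.Vt h))) := by
  classical
  rw [C.Q_comb h s _ (fun j i => if i = j then 1 else 0) fun j => by simp]
  congr 1
  refine MvPolynomial.ringHom_ext (fun c => ?_) (fun i => ?_)
  · simp [substHom]
  · simp [substHom]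

theorem rh_mem_sub_of_mem {U U' : X.Opens} (h : U' ≤ U) {c : Γ(X, U ⊓ C.Vt)} (hc : c ∈ C.sub U) :
    rh (inf_le_inf_right C.Vt h) c ∈ C.sub U' := by
  suffices C.sub U ≤ (C.sub U').comap (rh (inf_le_inf_right C.Vt h)) from this hc
  refine Subring.closure_le.2 ?_
  rintro c (⟨r, rfl⟩ | ⟨k, s, i, α, rfl⟩)
  · show rh _ (rh _ r) ∈ C.sub U'
    rw [rh_rh, ← rh_rh h (inf_le_left : U' ⊓ C.Vt ≤ U')]
    exact C.rh_mem_sub U' _
  · show rh _ (((C.Q s).coeff i).coeff α) ∈ C.sub U'
    rw [← MvPolynomial.coeff_map, ← Polynomial.coeff_map, ← C.Q_res h]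
    exact C.coeff_mem_sub _ i α

theorem subsingleton_chart {U : X.Opens} {a : genericPoints X} (ha : a.1 ∉ U) :
    Subsingleton Γ(X, U ⊓ C.V a) := by
  refine subsingleton_of_eq_bot (le_bot_iff.1 fun z hz => ?_)
  obtain ⟨η, hη, hηz⟩ := exists_genericPoint_specializes z
  exact (ha (C.uniq a ⟨η, hη⟩ (hηz.mem_open (C.V a).2 hz.2) ▸ hηz.mem_open U.2 hz.1)).elim

theorem coeff_integral {U : X.Opens} (hU : IsAffineOpen U) {k : ℕ} (s : Fin k → Γ(X', g ⁻¹ᵁ U)) (i : ℕ)
    (α : Fin k →₀ ℕ) :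
    (rh (inf_le_left : U ⊓ C.Vt ≤ U)).IsIntegralElem (((C.Q s).coeff i).coeff α) := by
  classical
  haveI : Fintype (genericPoints X) := finite_genericPoints.fintype
  set c := ((C.Q s).coeff i).coeff α with hc
  have key : ∀ a, ∃ q : Γ(X, U)[X], q.Monic ∧
      C.resA U a (q.eval₂ (rh (inf_le_left : U ⊓ C.Vt ≤ U)) c) = 0 := by
    intro a
    by_cases ha : a.1 ∈ U
    swap
    · exact ⟨1, monic_one, haveI := C.subsingleton_chart ha; Subsingleton.elim _ _⟩
    have haW : a.1 ∈ U ⊓ C.V a := ⟨ha, C.mem a⟩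
    letI : Field (X.presheaf.stalk a.1) :=
      (isField_stalk_of_closure_mem_irreducibleComponents X a.1 a.2).toField
    let K := X.presheaf.stalk a.1
    let γ : Γ(X, U ⊓ C.V a) →+* K := (X.presheaf.germ (U ⊓ C.V a) a.1 haW).hom
    have hγ : Function.Injective γ := by
      rw [injective_iff_map_eq_zero]
      intro x hx
      refine (basicOpen_eq_bot_iff _).1 (le_bot_iff.1 fun z hz => ?_)
      obtain ⟨η, hη, hηz⟩ := exists_genericPoint_specializes z
      have hηO := hηz.mem_open (X.basicOpen x).2 hz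
      obtain rfl : η = a.1 := congrArg Subtype.val (C.uniq a ⟨η, hη⟩ (X.basicOpen_le x hηO).2)
      exact (((X.mem_basicOpen x a.1 haW).1 hηO).ne_zero hx).elim
    let ι₀ : Γ(X, U) →+* Γ(X, U ⊓ C.V a) := rh inf_le_left
    letI : Algebra Γ(X, U) Γ(X', g ⁻¹ᵁ U) := (g.app U).hom.toAlgebra
    haveI : Module.Finite Γ(X, U) Γ(X', g ⁻¹ᵁ U) := IsFinite.finite_app g U hU
    letI : Algebra Γ(X, U) K := (γ.comp ι₀).toAlgebra
    let ψ : Γ(X', g ⁻¹ᵁ U) →ₐ[Γ(X, U)] Matrix (Fin (C.n a)) (Fin (C.n a)) K :=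
      { γ.mapMatrix.comp ((C.mat a inf_le_right).comp (rh (pre_le g inf_le_left))) with
        commutes' := fun r => by
          show γ.mapMatrix (C.mat a inf_le_right (rh _ (g.app U r))) = _
          rw [← app_rh, C.mat_app]
          ext p q
          rcases eq_or_ne p q with rfl | hpq <;> simp_all [Matrix.algebraMap_matrix_apply]
          rfl }
    obtain ⟨q, hq, hq0⟩ := isIntegral_coeff_GP ψ s (C.e a) i α
    refine ⟨q, hq, hγ ?_⟩
    rw [map_zero, Polynomial.hom_eval₂, Polynomial.hom_eval₂]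
    refine Eq.trans ?_ hq0
    have e1 : γ.comp ((C.resA U a).comp (rh (inf_le_left : U ⊓ C.Vt ≤ U))) = algebraMap Γ(X, U) K :=
      RingHom.ext fun r => congrArg γ (rh_rh _ _ r)
    have e2 : (GP (C.mt s a) (C.e a)).map (MvPolynomial.map γ) = GP (fun l => ψ (s l)) (C.e a) := by
      rw [GP_map_eq, GP, MT_map]
      congr 2
      simp only [MT, MvPolynomial.map_X, MvPolynomial.map_C]
      rfl
    have e3 : γ (C.resA U a c) = ((GP (fun l => ψ (s l)) (C.e a)).coeff i).coeff α := by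
      rw [← e2, ← C.Q_spec s a, Polynomial.coeff_map, Polynomial.coeff_map, MvPolynomial.coeff_map,
        MvPolynomial.coeff_map]
    rw [e1, e3]
  choose q hq hq0 using key
  refine ⟨∏ a, q a, monic_prod_of_monic _ _ fun a _ => hq a, C.ext_resA fun a => ?_⟩
  rw [eval₂_finsetProd, map_prod, map_zero]
  exact Finset.prod_eq_zero (Finset.mem_univ a) (hq0 a)

theorem finite_sub {U : X.Opens} (hU : IsAffineOpen U) :
    ((rh (inf_le_left : U ⊓ C.Vt ≤ U)).codRestrict (C.sub U) (C.rh_mem_sub U)).Finite := by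
  classical
  letI : Algebra Γ(X, U) Γ(X', g ⁻¹ᵁ U) := (g.app U).hom.toAlgebra
  haveI : Module.Finite Γ(X, U) Γ(X', g ⁻¹ᵁ U) := IsFinite.finite_app g U hU
  obtain ⟨k, s₀, hs₀⟩ := Module.Finite.exists_fin (R := Γ(X, U)) (M := Γ(X', g ⁻¹ᵁ U))
  letI : Algebra Γ(X, U) Γ(X, U ⊓ C.Vt) := (rh (inf_le_left : U ⊓ C.Vt ≤ U)).toAlgebra
  let F : Set Γ(X, U ⊓ C.Vt) :=
    ⋃ i ∈ (C.Q s₀).support, (fun α => ((C.Q s₀).coeff i).coeff α) '' ((C.Q s₀).coeff i).support
  have hF : F.Finite := (C.Q s₀).support.finite_toSet.biUnion fun i _ => (Finset.finite_toSet _).image _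
  let S₀ := Algebra.adjoin Γ(X, U) F
  let T : Subalgebra Γ(X, U) Γ(X, U ⊓ C.Vt) := { C.sub U with algebraMap_mem' := fun r => C.rh_mem_sub U r }
  have hmem₀ : ∀ i α, ((C.Q s₀).coeff i).coeff α ∈ S₀ := fun i α => by
    by_cases h : ((C.Q s₀).coeff i).coeff α = 0
    · rw [h]; exact zero_mem _
    · refine Algebra.subset_adjoin (Set.mem_biUnion (x := i) ?_ ⟨α, MvPolynomial.mem_support_iff.2 h, rfl⟩)
      rw [Finset.mem_coe, Polynomial.mem_support_iff]
      intro h0
      rw [h0, MvPolynomial.coeff_zero] at h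
      exact h rfl
  have hTS : T = S₀ := by
    refine le_antisymm ?_ (Algebra.adjoin_le ?_)
    · suffices C.sub U ≤ S₀.toSubring from fun x hx => this hx
      refine Subring.closure_le.2 ?_
      rintro c (⟨r, rfl⟩ | ⟨k', s, i, α, rfl⟩)
      · exact S₀.algebraMap_mem r
      · choose z hz using fun j => (Submodule.mem_span_range_iff_exists_fun _).1
          (hs₀ ▸ Submodule.mem_top : s j ∈ Submodule.span Γ(X, U) (Set.range s₀))
        rw [C.Q_comb le_rfl s₀ s z fun j => by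
          rw [← hz j]
          refine Finset.sum_congr rfl fun l _ => ?_
          rw [rh_self, Algebra.smul_def]
          rfl]
        refine coeffsIn_subst S₀.toSubring _ _ _ (fun i α => ?_) (fun j l => S₀.algebraMap_mem (z j l)) i α
        rw [rh_self]
        exact hmem₀ i α
    · rintro c hc
      obtain ⟨i, -, α, -, rfl⟩ := Set.mem_iUnion₂.1 hc |>.imp fun i h => h.imp fun _ h => h
      exact C.coeff_mem_sub s₀ i α
  have hfg : T.toSubmodule.FG := by
    rw [hTS]
    refine fg_adjoin_of_finite hF fun x hx => ?_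
    obtain ⟨i, -, α, -, rfl⟩ := Set.mem_iUnion₂.1 hx |>.imp fun i h => h.imp fun _ h => h
    exact C.coeff_integral hU s₀ i α
  haveI : Module.Finite Γ(X, U) T := Module.Finite.iff_fg.2 hfg
  exact RingHom.finite_algebraMap.2 (inferInstance : Module.Finite Γ(X, U) T)

end Charts

end Groth.L06.FiniteModel
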