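import Groth.Agent.L06.FiniteModel.Space
import Mathlib.AlgebraicGeometry.Morphisms.Affine
import Mathlib.RingTheory.IsTensorProduct

/-!
The weak norm of the base change to the finite model.
-/

set_option autoImplicit false
set_option backward.isDefEq.respectTransparency false
set_option backward.isDefEq.respectTransparency.types false
set_option linter.style.haveILetI false
set_option linter.unusedSectionVars false
universe u

open CategoryTheory CategoryTheory.Limits AlgebraicGeometry TopologicalSpace Opposite Polynomial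

noncomputable section

namespace Groth.L06.FiniteModel

open Groth.L18.NormFree Groth.L18.NormMixed

/-- Sections of a base change over affine opens form a pushout. -/
theorem isPushout_appLE {X' Y' X₀ Y₀ : Scheme.{u}} {v : X' ⟶ X₀} {p' : X' ⟶ Y'} {p : X₀ ⟶ Y₀} {t : Y' ⟶ Y₀}
    (H : IsPullback v p' p t) {US : Y₀.Opens} (hUS : IsAffineOpen US) {UT : Y'.Opens} (hUT : IsAffineOpen UT)
    {UX : X₀.Opens} (hUX : IsAffineOpen UX) (e : UT ≤ t ⁻¹ᵁ US) (eX : UX ≤ p ⁻¹ᵁ US)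
    {W : X'.Opens} (hW : W = v ⁻¹ᵁ UX ⊓ p' ⁻¹ᵁ UT) :
    IsPushout (p.appLE US UX eX) (t.appLE US UT e)
      (v.appLE UX W (hW ▸ inf_le_left)) (p'.appLE UT W (hW ▸ inf_le_right)) := by
  have hpb := Scheme.Hom.isPullback_resLE H (US := US) (UT := UT) e (UX := UX) eX hW
  haveI : IsAffine US.toScheme := hUS
  haveI : IsAffine UT.toScheme := hUT
  haveI : IsAffine UX.toScheme := hUX
  refine (isPushout_appTop_of_isPullback hpb).of_iso US.topIso UX.topIso UT.topIso W.topIso ?_ ?_ ?_ ?_ <;>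
    simp only [Scheme.Hom.appTop, Scheme.Hom.resLE_app_top, Category.assoc, Iso.inv_hom_id, Category.comp_id]

theorem exists_sum_of_isPushout {A B C D : CommRingCat.{u}} {f₁ : A ⟶ B} {f₂ : A ⟶ C} {g₁ : B ⟶ D} {g₂ : C ⟶ D}
    (H : IsPushout f₁ f₂ g₁ g₂) {k : ℕ} (s₀ : Fin k → B)
    (hs : ∀ b : B, ∃ a : Fin k → A, b = ∑ l, f₁ (a l) * s₀ l) (d : D) :
    ∃ c : Fin k → C, d = ∑ l, g₂ (c l) * g₁ (s₀ l) := by
  letI := f₂.hom.toAlgebra
  letI := f₁.hom.toAlgebra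
  letI := g₁.hom.toAlgebra
  letI := g₂.hom.toAlgebra
  letI : Algebra A D := (g₁.hom.comp f₁.hom).toAlgebra
  haveI : IsScalarTower A B D := IsScalarTower.of_algebraMap_eq' rfl
  haveI : IsScalarTower A C D := IsScalarTower.of_algebraMap_eq' (congrArg CommRingCat.Hom.hom H.w)
  have hb : Algebra.IsPushout A C B D := CommRingCat.isPushout_iff_isPushout.1 H.flip
  induction d using hb.out.inductionOn with
  | zero => exact ⟨0, by simp⟩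
  | tmul b =>
    obtain ⟨a, ha⟩ := hs b
    refine ⟨fun l => f₂ (a l), ?_⟩
    show g₁ b = _
    rw [ha, map_sum]
    refine Finset.sum_congr rfl fun l _ => ?_
    rw [map_mul]
    exact congrArg (· * _) (congrArg (fun φ => φ (a l)) H.w)
  | smul c x ih =>
    obtain ⟨w, rfl⟩ := ih
    refine ⟨fun l => c * w l, ?_⟩
    rw [Finset.smul_sum]
    refine Finset.sum_congr rfl fun l _ => ?_
    rw [map_mul, mul_assoc]
    rfl
  | add x y ihx ihy =>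
    obtain ⟨v, rfl⟩ := ihx
    obtain ⟨w, rfl⟩ := ihy
    exact ⟨fun l => v l + w l, by simp only [map_add, add_mul, Finset.sum_add_distrib]⟩

theorem mem_range_map {R S : Type u} [CommRing R] [CommRing S] {σ : Type} (φ : R →+* S) (f : MvPolynomial σ S)
    (hf : ∀ α, f.coeff α ∈ φ.range) : f ∈ (MvPolynomial.map (σ := σ) φ).range := by
  rw [f.as_sum]
  refine sum_mem fun α _ => ?_
  obtain ⟨r, hr⟩ := hf α
  exact ⟨MvPolynomial.monomial α r, by rw [MvPolynomial.map_monomial, hr]⟩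

variable {X X' : Scheme.{u}} {g : X' ⟶ X} (C : Charts g)
  [IsNoetherian X] [IsReduced X] [IsFinite g] [Surjective g]

namespace Charts

/-- The base change of the finite morphism to the model. -/
abbrev P : Scheme.{u} := pullback g C.h

/-- Its projection to the source. -/
abbrev pr : C.P ⟶ X' := pullback.fst g C.h

/-- Its projection to the model. -/
abbrev π : C.P ⟶ C.Z := pullback.snd g C.h

theorem le_pre {W : X.Opens} {V : C.Z.Opens} (hV : V ≤ C.h ⁻¹ᵁ W) : C.π ⁻¹ᵁ V ≤ C.pr ⁻¹ᵁ g ⁻¹ᵁ W := by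
  rw [← Scheme.Hom.comp_preimage, pullback.condition, Scheme.Hom.comp_preimage]
  exact pre_le _ hV

/-- Pullback of functions to the base change. -/
def gm {W : X.Opens} {V : C.Z.Opens} (hV : V ≤ C.h ⁻¹ᵁ W) : Γ(X', g ⁻¹ᵁ W) →+* Γ(C.P, C.π ⁻¹ᵁ V) :=
  (C.pr.appLE (g ⁻¹ᵁ W) (C.π ⁻¹ᵁ V) (C.le_pre hV)).hom

/-- Pullback of functions to the model. -/
def hm {W : X.Opens} {V : C.Z.Opens} (hV : V ≤ C.h ⁻¹ᵁ W) : Γ(X, W) →+* Γ(C.Z, V) :=
  (C.h.appLE W V hV).hom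

theorem gm_app {W : X.Opens} {V : C.Z.Opens} (hV : V ≤ C.h ⁻¹ᵁ W) (r : Γ(X, W)) :
    C.gm hV (g.app W r) = C.π.app V (C.hm hV r) := by
  have h : g.appLE W (g ⁻¹ᵁ W) le_rfl ≫ C.pr.appLE (g ⁻¹ᵁ W) (C.π ⁻¹ᵁ V) (C.le_pre hV) =
      C.h.appLE W V hV ≫ C.π.appLE V (C.π ⁻¹ᵁ V) le_rfl := by
    rw [Scheme.Hom.appLE_comp_appLE, Scheme.Hom.appLE_comp_appLE]
    simp only [pullback.condition]
  rw [← g.app_eq_appLE, ← C.π.app_eq_appLE] at h
  exact ConcreteCategory.congr_hom h r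

theorem gm_res {W W' : X.Opens} {V V' : C.Z.Opens} (hV : V ≤ C.h ⁻¹ᵁ W) (hV' : V' ≤ C.h ⁻¹ᵁ W')
    (hW : W' ≤ W) (hVV : V' ≤ V) (s : Γ(X', g ⁻¹ᵁ W)) :
    C.gm hV' (rh (pre_le g hW) s) = rh (pre_le C.π hVV) (C.gm hV s) := by
  show (X'.presheaf.map _ ≫ C.pr.appLE _ _ _) s = (C.pr.appLE _ _ _ ≫ C.P.presheaf.map _) s
  rw [Scheme.Hom.map_appLE, Scheme.Hom.appLE_map]

theorem hm_res {W W' : X.Opens} {V V' : C.Z.Opens} (hV : V ≤ C.h ⁻¹ᵁ W) (hV' : V' ≤ C.h ⁻¹ᵁ W')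
    (hW : W' ≤ W) (hVV : V' ≤ V) (r : Γ(X, W)) :
    C.hm hV' (rh hW r) = rh hVV (C.hm hV r) := by
  show (X.presheaf.map _ ≫ C.h.appLE _ _ _) r = (C.h.appLE _ _ _ ≫ C.Z.presheaf.map _) r
  rw [Scheme.Hom.map_appLE, Scheme.Hom.appLE_map]

instance isIso_pr : IsIso (C.pr ∣_ (g ⁻¹ᵁ C.Vt)) := by
  have h1 : IsPullback ((C.pr ⁻¹ᵁ (g ⁻¹ᵁ C.Vt)).ι ≫ C.π) (C.pr ∣_ (g ⁻¹ᵁ C.Vt)) C.h ((g ∣_ C.Vt) ≫ C.Vt.ι) := by
    rw [morphismRestrict_ι]
    exact (isPullback_morphismRestrict C.pr (g ⁻¹ᵁ C.Vt)).flip.paste_horiz (IsPullback.of_hasPullback g C.h).flip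
  have h2 : IsPullback (C.h ⁻¹ᵁ C.Vt).ι (C.h ∣_ C.Vt) C.h C.Vt.ι := (isPullback_morphismRestrict C.h C.Vt).flip
  obtain ⟨l, hl1, hl2⟩ := h2.exists_lift ((C.pr ⁻¹ᵁ (g ⁻¹ᵁ C.Vt)).ι ≫ C.π) ((C.pr ∣_ (g ⁻¹ᵁ C.Vt)) ≫ (g ∣_ C.Vt))
    (by rw [h1.w, Category.assoc])
  have h3 : IsPullback l (C.pr ∣_ (g ⁻¹ᵁ C.Vt)) (C.h ∣_ C.Vt) (g ∣_ C.Vt) :=
    IsPullback.of_right (by rw [hl1]; exact h1) hl2 h2
  exact MorphismProperty.of_isPullback (P := MorphismProperty.isomorphisms Scheme) h3 C.isIso_Vt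

theorem isIso_app_pr {U : X'.Opens} (hU : U ≤ g ⁻¹ᵁ C.Vt) : IsIso (C.pr.app U) := by
  have h := morphismRestrict_app C.pr (g ⁻¹ᵁ C.Vt) ((g ⁻¹ᵁ C.Vt).ι ⁻¹ᵁ U)
  have hUeq : (g ⁻¹ᵁ C.Vt).ι ''ᵁ ((g ⁻¹ᵁ C.Vt).ι ⁻¹ᵁ U) = U := by
    rw [Scheme.Hom.image_preimage_eq_opensRange_inf, Scheme.Opens.opensRange_ι, inf_eq_right.2 hU]
  haveI : IsIso ((C.pr ∣_ (g ⁻¹ᵁ C.Vt)).app ((g ⁻¹ᵁ C.Vt).ι ⁻¹ᵁ U)) := inferInstance
  rw [h] at this
  haveI := this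
  have h2 : IsIso (C.pr.app ((g ⁻¹ᵁ C.Vt).ι ''ᵁ ((g ⁻¹ᵁ C.Vt).ι ⁻¹ᵁ U))) := IsIso.of_isIso_comp_right _
    (C.P.presheaf.map (eqToHom (image_morphismRestrict_preimage C.pr (g ⁻¹ᵁ C.Vt)
      ((g ⁻¹ᵁ C.Vt).ι ⁻¹ᵁ U))).op)
  rwa [hUeq] at h2

theorem exists_preimage {a : genericPoints X} {V' : C.Z.Opens} (hV : V' ≤ C.h ⁻¹ᵁ C.V a) :
    ∃ W : X.Opens, W ≤ C.V a ∧ C.h ⁻¹ᵁ W = V' := by
  haveI := C.finite_h
  let W : X.Opens := C.V a ⊓ ⟨(C.h '' (V' : Set C.Z)ᶜ)ᶜ, (C.h.isClosedMap _ V'.2.isClosed_compl).isOpen_compl⟩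
  refine ⟨W, inf_le_left, le_antisymm (fun z hz => ?_) fun z hz => ⟨hV hz, fun ⟨z', hz', he⟩ => hz' ?_⟩⟩
  · by_contra hzV
    exact hz.2 ⟨z, hzV, rfl⟩
  · have hzt : z ∈ C.h ⁻¹ᵁ C.Vt := C.le_Vt a (hV hz)
    have hzt' : z' ∈ C.h ⁻¹ᵁ C.Vt := by show C.h z' ∈ C.Vt; rw [he]; exact hzt
    have hinj := (C.h ∣_ C.Vt).homeomorph.injective
    have h1 : (⟨z', hzt'⟩ : (C.h ⁻¹ᵁ C.Vt : C.Z.Opens)) = ⟨z, hzt⟩ := hinj (Subtype.ext (by
      show ((C.h ∣_ C.Vt) ⟨z', hzt'⟩).1 = ((C.h ∣_ C.Vt) ⟨z, hzt⟩).1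
      rw [morphismRestrict_base_coe, morphismRestrict_base_coe]
      exact he))
    obtain rfl : z' = z := congrArg Subtype.val h1
    exact hz

/-- The pulled back bases. -/
def cZ (a : genericPoints X) (i : Fin (C.n a)) : Γ(C.P, C.π ⁻¹ᵁ (C.h ⁻¹ᵁ C.V a)) := C.gm le_rfl (C.c a i)

theorem goodZ (a : genericPoints X) : IsGoodBasis C.π (C.cZ a) := by
  intro V' hV
  obtain ⟨W, hWa, rfl⟩ := C.exists_preimage hV
  haveI := C.isIso_app_of_le (hWa.trans (C.le_Vt a))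
  haveI := C.isIso_app_pr (pre_le g (hWa.trans (C.le_Vt a)))
  have hh : Function.Bijective (C.hm (le_refl (C.h ⁻¹ᵁ W))) := by
    show Function.Bijective (C.h.appLE W (C.h ⁻¹ᵁ W) le_rfl)
    rw [← C.h.app_eq_appLE]
    exact ConcreteCategory.bijective_of_isIso _
  have hg : Function.Bijective (C.gm (le_refl (C.h ⁻¹ᵁ W))) := by
    have e : C.π ⁻¹ᵁ C.h ⁻¹ᵁ W = C.pr ⁻¹ᵁ g ⁻¹ᵁ W := by
      rw [← Scheme.Hom.comp_preimage, ← pullback.condition, Scheme.Hom.comp_preimage]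
    show Function.Bijective (C.pr.appLE (g ⁻¹ᵁ W) (C.π ⁻¹ᵁ C.h ⁻¹ᵁ W) (C.le_pre le_rfl))
    haveI : IsIso (C.pr.appLE (g ⁻¹ᵁ W) (C.π ⁻¹ᵁ C.h ⁻¹ᵁ W) (C.le_pre le_rfl)) := by
      rw [Scheme.Hom.appLE]
      haveI : IsIso (homOfLE (C.le_pre (le_refl (C.h ⁻¹ᵁ W)))) := ⟨homOfLE e.ge, rfl, rfl⟩
      infer_instance
    exact ConcreteCategory.bijective_of_isIso _
  refine (Function.Bijective.of_comp_iff _ (Function.Bijective.piMap fun _ : Fin (C.n a) => hh)).1 ?_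
  convert hg.comp (C.good a W hWa) using 1
  funext r
  simp only [Function.comp_apply, Pi.map_apply, map_sum, map_mul, C.gm_app]
  refine Finset.sum_congr rfl fun i _ => congrArg _ ?_
  exact (C.gm_res le_rfl le_rfl hWa hV _).symm

theorem exists_basZ (a : genericPoints X) {V : C.Z.Opens} (h : V ≤ C.h ⁻¹ᵁ C.V a) :
    letI := (C.π.app V).hom.toAlgebra
    ∃ b : Module.Basis (Fin (C.n a)) Γ(C.Z, V) Γ(C.P, C.π ⁻¹ᵁ V), ∀ i, b i = rh (pre_le C.π h) (C.cZ a i) :=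
  (C.goodZ a).basis h

/-- The matrices of multiplications on the base change. -/
def matZ (a : genericPoints X) {V : C.Z.Opens} (h : V ≤ C.h ⁻¹ᵁ C.V a) :
    Γ(C.P, C.π ⁻¹ᵁ V) →+* Matrix (Fin (C.n a)) (Fin (C.n a)) Γ(C.Z, V) :=
  letI := (C.π.app V).hom.toAlgebra
  (Algebra.leftMulMatrix (C.exists_basZ a h).choose).toRingHom

theorem matZ_app (a : genericPoints X) {V : C.Z.Opens} (h : V ≤ C.h ⁻¹ᵁ C.V a) (r : Γ(C.Z, V)) :
    C.matZ a h (C.π.app V r) = algebraMap Γ(C.Z, V) _ r :=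
  letI := (C.π.app V).hom.toAlgebra
  (Algebra.leftMulMatrix (C.exists_basZ a h).choose).commutes r

theorem matZ_gm (a : genericPoints X) {W : X.Opens} {V : C.Z.Opens} (hW : W ≤ C.V a) (hV : V ≤ C.h ⁻¹ᵁ W)
    (s : Γ(X', g ⁻¹ᵁ W)) :
    C.matZ a (hV.trans (pre_le C.h hW)) (C.gm hV s) = (C.mat a hW s).map (C.hm hV) := by
  letI := (g.app W).hom.toAlgebra
  letI := (C.π.app V).hom.toAlgebra
  refine leftMulMatrix_map (C.exists_bas a hW).choose (C.exists_basZ a (hV.trans (pre_le C.h hW))).choose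
    (C.hm hV) (C.gm hV) (C.gm_app hV) (fun i => ?_) s
  rw [(C.exists_bas a hW).choose_spec, (C.exists_basZ a (hV.trans (pre_le C.h hW))).choose_spec]
  exact C.gm_res le_rfl hV hW (hV.trans (pre_le C.h hW)) _

theorem nrmHom_eq_det (a : genericPoints X) {V : C.Z.Opens} (h : V ≤ C.h ⁻¹ᵁ C.V a) (s : Γ(C.P, C.π ⁻¹ᵁ V)) :
    nrmHom C.π V s = (C.matZ a h s).det := by
  letI := (C.π.app V).hom.toAlgebra
  exact Algebra.norm_eq_matrix_det (C.exists_basZ a h).choose s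

theorem cayley (a : genericPoints X) {V : C.Z.Opens} (h : V ≤ C.h ⁻¹ᵁ C.V a) (s : Γ(C.P, C.π ⁻¹ᵁ V)) :
    ((C.matZ a h s).charpoly).eval₂ (C.π.app V).hom s = 0 := by
  letI := (C.π.app V).hom.toAlgebra
  let b := (C.exists_basZ a h).choose
  have h1 : aeval ((Algebra.leftMulMatrix b) s) ((Algebra.leftMulMatrix b) s).charpoly = 0 :=
    Matrix.aeval_self_charpoly _
  rw [aeval_algHom_apply] at h1
  exact (map_eq_zero_iff _ (Algebra.leftMulMatrix_injective b)).1 h1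

/-- The union of the charts on the model. -/
def VZ : C.Z.Opens := C.h ⁻¹ᵁ C.Vt

theorem inf_VZ (U : C.Z.Opens) : U ⊓ C.VZ ≤ ⨆ a, U ⊓ C.h ⁻¹ᵁ C.V a := fun z hz => by
  obtain ⟨a, ha⟩ := Opens.mem_iSup.1 (show C.h z ∈ C.Vt from hz.2)
  exact Opens.mem_iSup.2 ⟨a, hz.1, ha⟩

theorem ext_Z {U : C.Z.Opens} {c d : Γ(C.Z, U)}
    (h : ∀ a, rh (inf_le_left : U ⊓ C.h ⁻¹ᵁ C.V a ≤ U) c = rh inf_le_left d) : c = d := by
  haveI := C.isReduced_Z
  refine sub_eq_zero.1 ((basicOpen_eq_bot_iff _).1 (le_bot_iff.1 fun z hz => ?_))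
  obtain ⟨w, hw, hwt⟩ := C.dense_preimage.inter_open_nonempty _ (C.Z.basicOpen (c - d)).2 ⟨z, hz⟩
  obtain ⟨a, ha⟩ := Opens.mem_iSup.1 (C.inf_VZ U ⟨C.Z.basicOpen_le _ hw, hwt⟩)
  have h0 : rh (inf_le_left : U ⊓ C.h ⁻¹ᵁ C.V a ≤ U) (c - d) = 0 := by rw [map_sub, h a, sub_self]
  have h1 := congrArg C.Z.basicOpen h0
  rw [Scheme.basicOpen_zero, Scheme.basicOpen_res] at h1
  exact (h1.le ⟨ha, hw⟩).elim

/-- The defining property of the norm. -/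
def IsN (U : C.Z.Opens) (s : Γ(C.P, C.π ⁻¹ᵁ U)) (x : Γ(C.Z, U)) : Prop :=
  ∀ a, rh (inf_le_left : U ⊓ C.h ⁻¹ᵁ C.V a ≤ U) x =
    nrmHom C.π (U ⊓ C.h ⁻¹ᵁ C.V a) (rh (pre_le C.π inf_le_left) s) ^ C.e a

theorem IsN.unique {U : C.Z.Opens} {s : Γ(C.P, C.π ⁻¹ᵁ U)} {x y : Γ(C.Z, U)} (hx : C.IsN U s x)
    (hy : C.IsN U s y) : x = y :=
  C.ext_Z fun a => (hx a).trans (hy a).symm

theorem IsN.res {U V : C.Z.Opens} {s : Γ(C.P, C.π ⁻¹ᵁ U)} {x : Γ(C.Z, U)} (hx : C.IsN U s x) (h : V ≤ U) :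
    C.IsN V (rh (pre_le C.π h) s) (rh h x) := fun a => by
  rw [rh_rh, ← rh_rh (inf_le_left : U ⊓ C.h ⁻¹ᵁ C.V a ≤ U) (inf_le_inf_right _ h), hx a, map_pow]
  refine congrArg (· ^ _) ?_
  refine (nrmHom_ro (C.goodZ a) inf_le_right (inf_le_inf_right _ h) _).trans ?_
  exact congrArg _ ((rh_rh _ _ _).trans (rh_rh _ _ _).symm)

/-- Near every point the norm comes from a polynomial killing the function near the dense charts. -/
theorem exists_local {U : C.Z.Opens} (s : Γ(C.P, C.π ⁻¹ᵁ U)) {y : C.Z} (hy : y ∈ U) :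
    ∃ (O : C.Z.Opens) (hO : O ≤ U) (P : Γ(C.Z, O)[X]), y ∈ O ∧
      ∀ a, P.map (rh (inf_le_left : O ⊓ C.h ⁻¹ᵁ C.V a ≤ O)) =
        (C.matZ a inf_le_right (rh (pre_le C.π (inf_le_left.trans hO)) s)).charpoly ^ C.e a := by
  classical
  obtain ⟨_, ⟨U₀, hU₀, rfl⟩, hyU₀, -⟩ :=
    X.isBasis_affineOpens.exists_subset_of_mem_open (Set.mem_univ (C.h y)) isOpen_univ
  obtain ⟨_, ⟨O, hO, rfl⟩, hyO, hOle⟩ :=
    C.Z.isBasis_affineOpens.exists_subset_of_mem_open (show y ∈ U ⊓ C.h ⁻¹ᵁ U₀ from ⟨hy, hyU₀⟩)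
      (U ⊓ C.h ⁻¹ᵁ U₀).2
  have hOU : O ≤ U := fun _ h => (hOle h).1
  have hOU₀ : O ≤ C.h ⁻¹ᵁ U₀ := fun _ h => (hOle h).2
  -- generators
  letI : Algebra Γ(X, U₀) Γ(X', g ⁻¹ᵁ U₀) := (g.app U₀).hom.toAlgebra
  haveI : Module.Finite Γ(X, U₀) Γ(X', g ⁻¹ᵁ U₀) := IsFinite.finite_app g U₀ hU₀
  obtain ⟨k, s₀, hs₀⟩ := Module.Finite.exists_fin (R := Γ(X, U₀)) (M := Γ(X', g ⁻¹ᵁ U₀))
  have hpush := isPushout_appLE (IsPullback.of_hasPullback g C.h) hU₀ hO (hU₀.preimage g) hOU₀ le_rfl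
    (W := C.π ⁻¹ᵁ O) (inf_eq_right.2 (C.le_pre hOU₀)).symm
  obtain ⟨z, hz⟩ := exists_sum_of_isPushout hpush s₀ (fun b => by
    obtain ⟨a, ha⟩ := (Submodule.mem_span_range_iff_exists_fun _).1
      (hs₀ ▸ Submodule.mem_top : b ∈ Submodule.span Γ(X, U₀) (Set.range s₀))
    refine ⟨a, ha.symm.trans (Finset.sum_congr rfl fun l _ => ?_)⟩
    rw [Algebra.smul_def]
    exact congrArg (· * _) (ConcreteCategory.congr_hom g.app_eq_appLE (a l)))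
    (rh (pre_le C.π hOU) s)
  -- the lifted generic polynomial
  obtain ⟨Q₀, hQ₀⟩ : C.Q s₀ ∈ Polynomial.lifts (MvPolynomial.map (σ := Fin k) (C.jhom hU₀)) :=
    (Polynomial.lifts_iff_coeff_lifts _).2 fun i => mem_range_map _ _ fun α =>
      C.exists_jhom_eq hU₀ (C.coeff_mem_sub s₀ i α)
  let ev := MvPolynomial.eval₂Hom (rh hOU₀) z
  refine ⟨O, hOU, Q₀.map ev, hyO, fun a => ?_⟩
  set V' := O ⊓ C.h ⁻¹ᵁ C.V a
  have hV' : V' ≤ C.h ⁻¹ᵁ (U₀ ⊓ C.V a) := fun _ h => ⟨hOU₀ h.1, h.2⟩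
  let zV : Fin k → Γ(C.Z, V') := fun l => rh (inf_le_left : V' ≤ O) (z l)
  -- the two evaluations agree
  have hcomp : (rh (inf_le_left : V' ≤ O)).comp ev =
      (MvPolynomial.eval₂Hom (C.hm hV') zV).comp
        ((MvPolynomial.map (C.resA U₀ a)).comp (MvPolynomial.map (C.jhom hU₀))) := by
    refine MvPolynomial.ringHom_ext (fun c => ?_) (fun l => ?_)
    · show rh _ (MvPolynomial.eval₂Hom _ _ (MvPolynomial.C c)) = MvPolynomial.eval₂Hom (C.hm hV') zV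
        (MvPolynomial.map (C.resA U₀ a) (MvPolynomial.map (C.jhom hU₀) (MvPolynomial.C c)))
      rw [MvPolynomial.map_C, MvPolynomial.map_C, MvPolynomial.eval₂Hom_C, MvPolynomial.eval₂Hom_C]
      have hk : V' ≤ C.h ⁻¹ᵁ (U₀ ⊓ C.Vt) := fun _ h => ⟨hOU₀ h.1, C.le_Vt a h.2⟩
      have h1 := congrArg (rh hk) (C.res_eq_app hU₀ c)
      rw [rh_rh] at h1
      rw [rh_rh, h1]
      show (C.h.app (U₀ ⊓ C.Vt) ≫ C.Z.presheaf.map _) (C.jhom hU₀ c) =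
        (X.presheaf.map _ ≫ C.h.appLE _ _ _) (C.jhom hU₀ c)
      rw [Scheme.Hom.map_appLE, C.h.app_eq_appLE, Scheme.Hom.appLE_map]
    · show rh _ (MvPolynomial.eval₂Hom _ _ (MvPolynomial.X l)) = MvPolynomial.eval₂Hom (C.hm hV') zV
        (MvPolynomial.map (C.resA U₀ a) (MvPolynomial.map (C.jhom hU₀) (MvPolynomial.X l)))
      rw [MvPolynomial.map_X, MvPolynomial.map_X, MvPolynomial.eval₂Hom_X', MvPolynomial.eval₂Hom_X']
  rw [Polynomial.map_map, hcomp, ← Polynomial.map_map, ← Polynomial.map_map,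
    show Q₀.map (MvPolynomial.map (C.jhom hU₀)) = C.Q s₀ from hQ₀, C.Q_spec, GP_eval]
  refine congrArg (fun M => (Matrix.charpoly M) ^ C.e a) ?_
  -- the matrix of `s`
  have hs : rh (pre_le C.π (inf_le_left.trans hOU : V' ≤ U)) s =
      ∑ l, C.π.app V' (zV l) * C.gm hV' (rh (pre_le g inf_le_left) (s₀ l)) := by
    rw [← rh_rh (pre_le C.π hOU) (pre_le C.π (inf_le_left : V' ≤ O)), hz, map_sum]
    refine Finset.sum_congr rfl fun l _ => ?_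
    rw [map_mul, C.gm_res hOU₀ hV' inf_le_left inf_le_left, app_rh]
    refine congrArg (rh _ · * _) ?_
    exact (ConcreteCategory.congr_hom C.π.app_eq_appLE (z l)).symm
  rw [hs, map_sum]
  refine Finset.sum_congr rfl fun l _ => ?_
  rw [map_mul, C.matZ_app, ← Algebra.smul_def]
  exact congrArg _ (C.matZ_gm a inf_le_right hV' _).symm

theorem isN_of_poly {O : C.Z.Opens} {s : Γ(C.P, C.π ⁻¹ᵁ O)} {P : Γ(C.Z, O)[X]}
    (hP : ∀ a, P.map (rh (inf_le_left : O ⊓ C.h ⁻¹ᵁ C.V a ≤ O)) =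
      (C.matZ a inf_le_right (rh (pre_le C.π inf_le_left) s)).charpoly ^ C.e a) :
    C.IsN O s ((-1) ^ C.m * P.coeff 0) := fun a => by
  rw [map_mul, map_pow, map_neg, map_one, ← Polynomial.coeff_map, hP a, Polynomial.coeff_zero_eq_eval_zero,
    Polynomial.eval_pow, ← Polynomial.coeff_zero_eq_eval_zero,
    C.nrmHom_eq_det a inf_le_right, Matrix.det_eq_sign_charpoly_coeff, Fintype.card_fin, mul_pow, ← pow_mul,
    C.n_mul_e]

theorem exists_norm (U : C.Z.Opens) (s : Γ(C.P, C.π ⁻¹ᵁ U)) :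
    ∃ x : Γ(C.Z, U), C.IsN U s x ∧ ∀ w ∈ closure ((C.π ⁻¹ᵁ C.VZ : C.P.Opens) : Set C.P),
      C.π w ∈ C.Z.basicOpen x → w ∈ C.P.basicOpen s := by
  choose O hO P hyO hP using fun y : U => C.exists_local s y.2
  have hN : ∀ y, C.IsN (O y) (rh (pre_le C.π (hO y)) s) ((-1) ^ C.m * (P y).coeff 0) := fun y =>
    C.isN_of_poly fun a => (hP y a).trans (by rw [rh_rh])
  obtain ⟨x, hx, -⟩ := C.Z.sheaf.existsUnique_gluing' O U (fun y => homOfLE (hO y))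
    (fun y hy => Opens.mem_iSup.2 ⟨⟨y, hy⟩, hyO ⟨y, hy⟩⟩) (fun y => (-1) ^ C.m * (P y).coeff 0) fun y z => by
      show rh (inf_le_left : O y ⊓ O z ≤ O y) _ = rh inf_le_right _
      have h1 := IsN.res C (hN y) (inf_le_left : O y ⊓ O z ≤ O y)
      have h2 := IsN.res C (hN z) (inf_le_right : O y ⊓ O z ≤ O z)
      rw [rh_rh] at h1 h2
      exact IsN.unique C h1 h2
  have hxN : C.IsN U s x := fun a => by
    refine C.Z.sheaf.eq_of_locally_eq' (fun y => O y ⊓ C.h ⁻¹ᵁ C.V a) (U ⊓ C.h ⁻¹ᵁ C.V a)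
      (fun y => homOfLE (inf_le_inf_right _ (hO y)))
      (fun y hy => Opens.mem_iSup.2 ⟨⟨y, hy.1⟩, hyO ⟨y, hy.1⟩, hy.2⟩) _ _ fun y => ?_
    show rh (inf_le_inf_right _ (hO y)) (rh _ x) = rh _ (_ ^ _)
    rw [rh_rh, ← rh_rh (hO y) inf_le_left, show rh (hO y) x = _ from hx y, hN y a, map_pow]
    refine congrArg (· ^ _) ?_
    refine Eq.trans ?_ (nrmHom_ro (C.goodZ a) inf_le_right (inf_le_inf_right _ (hO y)) _).symm
    exact congrArg _ ((rh_rh _ _ _).trans (rh_rh _ _ _).symm)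
  refine ⟨x, hxN, fun w hwD hw => ?_⟩
  by_contra hws
  set y : U := ⟨C.π w, C.Z.basicOpen_le _ hw⟩
  have hwO : w ∈ C.π ⁻¹ᵁ O y := hyO y
  let sO : Γ(C.P, C.π ⁻¹ᵁ O y) := rh (pre_le C.π (hO y)) s
  let hh : Γ(C.P, C.π ⁻¹ᵁ O y) := (P y).eval₂ (C.π.app (O y)).hom sO
  have hkill : ∀ a, rh (pre_le C.π (inf_le_left : O y ⊓ C.h ⁻¹ᵁ C.V a ≤ O y)) hh = 0 := by
    intro a
    have e1 : (rh (pre_le C.π (inf_le_left : O y ⊓ C.h ⁻¹ᵁ C.V a ≤ O y))).comp (C.π.app (O y)).hom =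
        (C.π.app (O y ⊓ C.h ⁻¹ᵁ C.V a)).hom.comp (rh inf_le_left) :=
      RingHom.ext fun r => (app_rh (π := C.π) inf_le_left r).symm
    show rh _ ((P y).eval₂ _ sO) = 0
    rw [Polynomial.hom_eval₂, e1, ← Polynomial.eval₂_map, hP y a, Polynomial.eval₂_pow,
      show rh (pre_le C.π (inf_le_left : O y ⊓ C.h ⁻¹ᵁ C.V a ≤ O y)) sO =
        rh (pre_le C.π (inf_le_left.trans (hO y))) s from rh_rh _ _ _, C.cayley, zero_pow (C.e_pos a).ne']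
  have hwh : w ∉ C.P.basicOpen hh := by
    intro hw'
    obtain ⟨v, hv, hvV⟩ := mem_closure_iff.1 hwD _ (C.P.basicOpen hh).2 hw'
    have hvO : C.π v ∈ O y := C.P.basicOpen_le hh hv
    obtain ⟨a, ha⟩ := Opens.mem_iSup.1 (C.inf_VZ (O y) ⟨hvO, hvV⟩)
    have h1 := congrArg C.P.basicOpen (hkill a)
    rw [Scheme.basicOpen_zero, Scheme.basicOpen_res] at h1
    exact h1.le ⟨ha, hv⟩
  let φ : Γ(C.P, C.π ⁻¹ᵁ O y) →+* C.P.residueField w :=
    (IsLocalRing.residue _).comp (C.P.presheaf.germ (C.π ⁻¹ᵁ O y) w hwO).hom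
  have hφh : φ hh = 0 :=
    (IsLocalRing.residue_eq_zero_iff _).2
      ((IsLocalRing.mem_maximalIdeal _).2 fun hu => hwh ((C.P.mem_basicOpen hh w hwO).2 hu))
  have hφs : φ sO = 0 := by
    refine (IsLocalRing.residue_eq_zero_iff _).2 ((IsLocalRing.mem_maximalIdeal _).2 fun hu => hws ?_)
    have h1 := (C.P.mem_basicOpen sO w hwO).2 hu
    rw [show C.P.basicOpen sO = _ from Scheme.basicOpen_res C.P s _] at h1
    exact h1.2
  have hγ0 : φ (C.π.app (O y) ((P y).coeff 0)) = 0 := by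
    change φ ((P y).eval₂ (C.π.app (O y)).hom sO) = 0 at hφh
    rw [Polynomial.hom_eval₂, hφs, Polynomial.eval₂_at_zero] at hφh
    exact hφh
  have h6 : C.π w ∈ C.Z.basicOpen ((P y).coeff 0) := by
    have h7 : C.π w ∈ C.Z.basicOpen (rh (hO y) x) := by
      rw [Scheme.basicOpen_res]; exact ⟨hyO y, hw⟩
    rw [show rh (hO y) x = _ from hx y, Scheme.basicOpen_mul] at h7
    exact h7.2
  have h8 : w ∈ C.P.basicOpen (C.π.app (O y) ((P y).coeff 0)) := by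
    rw [← Scheme.preimage_basicOpen C.π]; exact h6
  exact (IsLocalRing.mem_maximalIdeal _).1 ((IsLocalRing.residue_eq_zero_iff _).1 hγ0)
    ((C.P.mem_basicOpen _ w hwO).1 h8)

theorem exists_weakNorm : ∃ d, Nonempty (Groth.L18.NormDesc.WeakNorm C.π d) := by
  haveI := C.finite_h
  choose N hN hmem using C.exists_norm
  refine ⟨C.m, ⟨{
    D := closure ((C.π ⁻¹ᵁ C.VZ : C.P.Opens) : Set C.P)
    exists_mem := fun y => ?_
    one_le := C.m_pos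
    norm := fun U =>
      { toFun := N U
        map_one' := IsN.unique C (hN U 1) fun a => by rw [map_one, map_one, map_one, one_pow]
        map_mul' := fun s t => IsN.unique C (hN U (s * t)) fun a => by
          rw [map_mul, map_mul, map_mul, mul_pow, hN U s a, hN U t a] }
    norm_res := fun {U V} h s => IsN.unique C (IsN.res C (hN U s) h) (hN V _)
    norm_app := fun U r => IsN.unique C (hN U _) fun a => ?_
    mem_of_mem := fun U s w hwD hw => hmem U s w hwD hw }⟩⟩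
  · have hclosed : IsClosed (C.π '' closure ((C.π ⁻¹ᵁ C.VZ : C.P.Opens) : Set C.P)) :=
      C.π.isClosedMap _ isClosed_closure
    have hsub : (C.VZ : Set C.Z) ⊆ C.π '' closure ((C.π ⁻¹ᵁ C.VZ : C.P.Opens) : Set C.P) := fun z hz => by
      obtain ⟨w, rfl⟩ := C.π.surjective z
      exact ⟨w, subset_closure hz, rfl⟩
    exact hclosed.closure_subset_iff.2 hsub (C.dense_preimage y)
  · rw [← app_rh, nrmHom_app (C.goodZ a) inf_le_right, ← pow_mul, C.n_mul_e, map_pow]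

end Charts

end Groth.L06.FiniteModel
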