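import Groth.Agent.L06.FiniteModel.Model
import Groth.Agent.L18.AffineAlgExtend
import Mathlib.AlgebraicGeometry.Morphisms.Finite

/-!
The finite birational scheme over a reduced Noetherian scheme attached to a finite surjective morphism.
-/

set_option autoImplicit false
set_option backward.isDefEq.respectTransparency false
set_option backward.isDefEq.respectTransparency.types false
set_option linter.style.haveILetI false
set_option linter.unusedSectionVars false
universe u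

open CategoryTheory CategoryTheory.Limits AlgebraicGeometry TopologicalSpace Opposite Polynomial

noncomputable section

namespace Groth.L06.FiniteModel

open Groth.L18.NormFree Groth.L18.NormMixed

variable {X X' : Scheme.{u}} {g : X' ⟶ X} (C : Charts g)
  [IsNoetherian X] [IsReduced X] [IsFinite g] [Surjective g]

namespace Charts

/-- Elements becoming coefficients after multiplication by a power of a function. -/
def clearing (U : X.Opens) (r : Γ(X, U)) : Subring Γ(X, X.basicOpen r ⊓ C.Vt) where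
  carrier := {x | ∃ N : ℕ, ∃ c ∈ C.sub U,
    x * rh ((inf_le_left : X.basicOpen r ⊓ C.Vt ≤ X.basicOpen r).trans (X.basicOpen_le r)) r ^ N =
      rh (inf_le_inf_right C.Vt (X.basicOpen_le r)) c}
  mul_mem' := by
    rintro x y ⟨N, c, hc, hx⟩ ⟨M, d, hd, hy⟩
    refine ⟨N + M, c * d, mul_mem hc hd, ?_⟩
    rw [map_mul, ← hx, ← hy, pow_add]; ring
  one_mem' := ⟨0, 1, one_mem _, by simp⟩
  add_mem' := by
    rintro x y ⟨N, c, hc, hx⟩ ⟨M, d, hd, hy⟩
    have hr : rh (inf_le_left : U ⊓ C.Vt ≤ U) r ∈ C.sub U := C.rh_mem_sub U r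
    refine ⟨N + M, c * rh (inf_le_left : U ⊓ C.Vt ≤ U) r ^ M + d * rh (inf_le_left : U ⊓ C.Vt ≤ U) r ^ N,
      add_mem (mul_mem hc (pow_mem hr M)) (mul_mem hd (pow_mem hr N)), ?_⟩
    simp only [map_add, map_mul, map_pow, rh_rh, ← hx, ← hy, pow_add]; ring
  zero_mem' := ⟨0, 0, zero_mem _, by simp⟩
  neg_mem' := by
    rintro x ⟨N, c, hc, hx⟩
    exact ⟨N, -c, neg_mem hc, by rw [map_neg, ← hx, neg_mul]⟩

theorem sub_le_clearing {U : X.Opens} (hU : IsAffineOpen U) (r : Γ(X, U)) :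
    C.sub (X.basicOpen r) ≤ C.clearing U r := by
  haveI := hU.isLocalization_basicOpen r
  set hD := X.basicOpen_le r
  have him : ∀ c ∈ C.sub U, rh (inf_le_inf_right C.Vt hD) c ∈ C.clearing U r :=
    fun c hc => ⟨0, c, hc, by rw [pow_zero, mul_one]⟩
  let u : Γ(X, X.basicOpen r) := IsLocalization.Away.invSelf r
  have hu : rh hD r * u = 1 := IsLocalization.Away.mul_invSelf r
  have hu' : rh (inf_le_left : X.basicOpen r ⊓ C.Vt ≤ X.basicOpen r) u ∈ C.clearing U r := by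
    refine ⟨1, 1, one_mem _, ?_⟩
    rw [pow_one, map_one, ← rh_rh hD inf_le_left, ← map_mul, mul_comm, hu, map_one]
  refine Subring.closure_le.2 ?_
  rintro x (⟨a, rfl⟩ | ⟨k, s', i, α, rfl⟩)
  · obtain ⟨N, b, hb⟩ := IsLocalization.Away.surj r a
    refine ⟨N, rh inf_le_left b, C.rh_mem_sub U b, ?_⟩
    have h1 := congrArg (rh (inf_le_left : X.basicOpen r ⊓ C.Vt ≤ X.basicOpen r)) hb
    simp only [map_mul, map_pow] at h1
    rw [rh_rh, ← rh_rh hD inf_le_left, ← rh_rh hD inf_le_left]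
    exact h1
  · have hπU : IsAffineOpen (g ⁻¹ᵁ U) := hU.preimage g
    have hpre : g ⁻¹ᵁ X.basicOpen r = X'.basicOpen (g.app U r) := Scheme.preimage_basicOpen g r
    letI := (rh (pre_le g hD)).toAlgebra
    haveI : IsLocalization.Away (g.app U r) Γ(X', g ⁻¹ᵁ X.basicOpen r) :=
      hπU.isLocalization_of_eq_basicOpen _ (homOfLE (pre_le g hD)) hpre
    choose N s hs using fun j => IsLocalization.Away.surj (g.app U r) (s' j)
    have hcomb := C.Q_comb hD s s' (fun j l => if l = j then u ^ N j else 0) fun j => by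
      rw [Finset.sum_eq_single j (fun l _ hl => by simp [hl]) (by simp)]
      simp only [↓reduceIte, map_pow]
      rw [show rh (pre_le g hD) (s j) = algebraMap _ _ (s j) from rfl, ← hs j,
        show algebraMap Γ(X', g ⁻¹ᵁ U) Γ(X', g ⁻¹ᵁ X.basicOpen r) (g.app U r) = g.app _ (rh hD r) from
          (app_rh hD r).symm, mul_left_comm, ← mul_pow, ← map_mul, mul_comm u, hu, map_one, one_pow, mul_one]
    show _ ∈ C.clearing U r
    rw [hcomb]
    refine coeffsIn_subst (C.clearing U r) _ _ _ (fun i α => him _ (C.coeff_mem_sub s i α)) (fun j l => ?_) i α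
    split_ifs
    · rw [map_pow]; exact pow_mem hu' _
    · rw [map_zero]; exact zero_mem _

/-- The structure map of the algebra. -/
def str (U : X.Opens) : Γ(X, U) →+* C.sub U :=
  (rh (inf_le_left : U ⊓ C.Vt ≤ U)).codRestrict (C.sub U) (C.rh_mem_sub U)

/-- The restriction maps of the algebra. -/
def resSub {U V : X.Opens} (h : V ≤ U) : C.sub U →+* C.sub V :=
  ((rh (inf_le_inf_right C.Vt h)).comp (C.sub U).subtype).codRestrict (C.sub V) fun c => C.rh_mem_sub_of_mem h c.2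

/-- The algebra on affine opens. -/
def data : Groth.L18.AlgExt.Data X where
  obj U _ := CommRingCat.of (C.sub U)
  res _ _ h := CommRingCat.ofHom (C.resSub h)
  res_id _ := CommRingCat.hom_ext (RingHom.ext fun c => Subtype.ext (rh_self _ _))
  res_comp _ _ _ h h' := CommRingCat.hom_ext (RingHom.ext fun c => Subtype.ext (rh_rh _ _ _))
  str U _ := CommRingCat.ofHom (C.str U)
  str_res {U V} _ _ h := CommRingCat.hom_ext (RingHom.ext fun a => Subtype.ext (by
    show rh _ (rh _ a) = rh _ (rh h a)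
    rw [rh_rh, rh_rh]))
  isLoc U hU r := by
    haveI := hU.isLocalization_basicOpen r
    set hD := X.basicOpen_le r
    letI : Algebra (C.sub U) (C.sub (X.basicOpen r)) := (C.resSub hD).toAlgebra
    show IsLocalization.Away (C.str U r) (C.sub (X.basicOpen r))
    refine (isLocalization_iff _ _).2 ⟨?_, ?_, ?_⟩
    · rintro ⟨_, N, rfl⟩
      refine (map_pow (C.resSub hD) (C.str U r) N) ▸ IsUnit.pow N ?_
      have h : C.resSub hD (C.str U r) = C.str (X.basicOpen r) (rh hD r) := Subtype.ext (by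
        show rh _ (rh _ r) = rh _ (rh hD r)
        rw [rh_rh, rh_rh])
      rw [h]
      exact (IsUnit.of_mul_eq_one _ (IsLocalization.Away.mul_invSelf (S := Γ(X, X.basicOpen r)) r)).map _
    · intro z
      obtain ⟨N, c, hc, hz⟩ := C.sub_le_clearing hU r z.2
      refine ⟨(⟨c, hc⟩, ⟨_, N, rfl⟩), Subtype.ext ?_⟩
      show z.1 * rh _ ((rh (inf_le_left : U ⊓ C.Vt ≤ U)) r ^ N) = rh _ c
      rw [map_pow, rh_rh]
      exact hz
    · intro x y hxy
      let O : X.Opens := U ⊓ C.Vt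
      have hO : IsCompact (O : Set X) := NoetherianSpace.isCompact _
      have hO' : IsQuasiSeparated (O : Set X) := fun _ _ _ _ _ _ _ _ => NoetherianSpace.isCompact _
      let f : Γ(X, O) := rh inf_le_left r
      letI : Algebra Γ(X, O) Γ(X, X.basicOpen f) := (rh (X.basicOpen_le f)).toAlgebra
      haveI : IsLocalization.Away f Γ(X, X.basicOpen f) := isLocalization_basicOpen_of_qcqs hO hO' f
      have hle : X.basicOpen f ≤ X.basicOpen r ⊓ C.Vt := by
        rw [show X.basicOpen f = _ from Scheme.basicOpen_res X r _]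
        exact le_inf inf_le_right (inf_le_left.trans inf_le_right)
      have h1 : rh (inf_le_inf_right C.Vt hD) x.1 = rh (inf_le_inf_right C.Vt hD) y.1 := congrArg Subtype.val hxy
      have h2 := congrArg (rh hle) h1
      rw [rh_rh, rh_rh] at h2
      obtain ⟨N, hN⟩ := IsLocalization.Away.exists_of_eq f
        (show algebraMap Γ(X, O) Γ(X, X.basicOpen f) x.1 = algebraMap Γ(X, O) Γ(X, X.basicOpen f) y.1 from h2)
      exact ⟨⟨_, N, rfl⟩, Subtype.ext hN⟩

/-- The model. -/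
def Z : Scheme.{u} := C.data.space

/-- Its structure map. -/
def h : C.Z ⟶ X := C.data.p

instance isAffineHom_h : IsAffineHom C.h := C.data.isAffineHom_p

/-- Functions on the model as functions on the union of the charts. -/
def jhom {U : X.Opens} (hU : IsAffineOpen U) : Γ(C.Z, C.h ⁻¹ᵁ U) →+* Γ(X, U ⊓ C.Vt) :=
  (C.sub U).subtype.comp (C.data.ev U hU).hom

theorem jhom_injective {U : X.Opens} (hU : IsAffineOpen U) : Function.Injective (C.jhom hU) :=
  Subtype.val_injective.comp (C.data.evEquiv U hU).injective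

theorem exists_jhom_eq {U : X.Opens} (hU : IsAffineOpen U) {c : Γ(X, U ⊓ C.Vt)} (hc : c ∈ C.sub U) :
    ∃ z, C.jhom hU z = c := by
  obtain ⟨z, hz⟩ := (C.data.evEquiv U hU).surjective (⟨c, hc⟩ : C.sub U)
  exact ⟨z, congrArg Subtype.val hz⟩

theorem jhom_app {U : X.Opens} (hU : IsAffineOpen U) (a : Γ(X, U)) :
    C.jhom hU (C.h.app U a) = rh inf_le_left a :=
  congrArg Subtype.val (ConcreteCategory.congr_hom (C.data.str_ev U hU) a)

theorem jhom_res {U V : X.Opens} (hU : IsAffineOpen U) (hV : IsAffineOpen V) (hle : V ≤ U)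
    (z : Γ(C.Z, C.h ⁻¹ᵁ U)) :
    C.jhom hV (rh (pre_le C.h hle) z) = rh (inf_le_inf_right C.Vt hle) (C.jhom hU z) :=
  congrArg Subtype.val (C.data.ev_res hU hV hle z)

theorem res_eq_app {U : X.Opens} (hU : IsAffineOpen U) (z : Γ(C.Z, C.h ⁻¹ᵁ U)) :
    rh (pre_le C.h (inf_le_left : U ⊓ C.Vt ≤ U)) z = C.h.app (U ⊓ C.Vt) (C.jhom hU z) := by
  refine C.Z.sheaf.eq_of_locally_eq'
    (fun W : {W : X.affineOpens // W.1 ≤ U ⊓ C.Vt} => C.h ⁻¹ᵁ W.1.1) (C.h ⁻¹ᵁ (U ⊓ C.Vt))
    (fun W => homOfLE (pre_le C.h W.2)) (fun x hx => ?_) _ _ fun W => ?_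
  · obtain ⟨_, ⟨W, hW, rfl⟩, hxW, hWle⟩ := X.isBasis_affineOpens.exists_subset_of_mem_open hx (U ⊓ C.Vt).2
    exact Opens.mem_iSup.2 ⟨⟨⟨W, hW⟩, hWle⟩, hxW⟩
  show rh (pre_le C.h W.2) (rh _ z) = rh (pre_le C.h W.2) (C.h.app _ _)
  apply C.jhom_injective W.1.2
  rw [rh_rh, C.jhom_res hU W.1.2 (W.2.trans inf_le_left), ← app_rh W.2, C.jhom_app, rh_rh]

theorem finite_h : IsFinite C.h where
  finite_app U hU := by
    have h1 : (C.str U).Finite := C.finite_sub hU
    let e := C.data.evEquiv U hU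
    have h2 : (C.h.app U).hom = (e.symm.toRingHom).comp (C.str U) := RingHom.ext fun a => e.injective <| by
      show e (C.h.app U a) = e (e.symm (C.str U a))
      rw [e.apply_symm_apply]
      exact ConcreteCategory.congr_hom (C.data.str_ev U hU) a
    rw [h2]
    exact (RingHom.Finite.of_surjective _ e.symm.surjective).comp h1

theorem isReduced_Z : IsReduced C.Z := by
  haveI : ∀ i, IsReduced (C.data.glueData.cover.X i) := fun i => by
    haveI : _root_.IsReduced (C.sub i.1) :=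
      isReduced_of_injective (C.sub i.1).subtype Subtype.val_injective
    exact inferInstanceAs (IsReduced (Spec (CommRingCat.of (C.sub i.1))))
  exact IsReduced.of_openCover C.Z C.data.glueData.cover

/-- Normal or free. -/
def Good (g : X' ⟶ X) (y : X) : Prop :=
  (IsDomain (X.presheaf.stalk y) ∧ IsIntegrallyClosed (X.presheaf.stalk y)) ∨
    ∃ (T : X.Opens) (n : ℕ) (c : Fin n → Γ(X', g ⁻¹ᵁ T)), y ∈ T ∧ IsGoodBasis g c

theorem good_of_mem_Vt {y : X} (hy : y ∈ C.Vt) : Good g y := by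
  obtain ⟨a, ha⟩ := Opens.mem_iSup.1 hy
  exact Or.inr ⟨_, _, _, ha, C.good a⟩

theorem exists_extend {U : X.Opens} (hU : IsAffineOpen U) {y : X} (hy : y ∈ U) (hgood : Good g y) {k : ℕ}
    (s : Fin k → Γ(X', g ⁻¹ᵁ U)) (i : ℕ) (α : Fin k →₀ ℕ) :
    ∃ (O : X.Opens) (hO : O ≤ U) (γ : Γ(X, O)), y ∈ O ∧
      rh (inf_le_left : O ⊓ C.Vt ≤ O) γ = rh (inf_le_inf_right C.Vt hO) (((C.Q s).coeff i).coeff α) := by
  classical
  rcases hgood with ⟨hd, hn⟩ | ⟨T, n, c, hyT, hc⟩
  · -- normal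
    obtain ⟨W, hW, hyW, hWU, hdW⟩ := exists_domain_nhd (y := y) hy
    obtain ⟨η, hη, hηy⟩ := exists_genericPoint_specializes y
    have hηW : η ∈ W := hηy.mem_open W.2 hyW
    obtain ⟨r, hr, hηr⟩ := hW.exists_basicOpen_le (V := W ⊓ C.Vt) ⟨η, hηW, C.generic_mem_Vt hη⟩ hηW
    have hr0 : r ≠ 0 := fun h0 => by rw [h0, Scheme.basicOpen_zero] at hηr; exact hηr
    haveI := hW.isLocalization_basicOpen r
    let p := (hW.primeIdealOf ⟨y, hyW⟩).asIdeal
    letI := X.presheaf.algebra_section_stalk ⟨y, hyW⟩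
    haveI := hW.isLocalization_stalk ⟨y, hyW⟩
    haveI : IsIntegrallyClosed (Localization.AtPrime p) :=
      IsIntegrallyClosed.of_equiv
        (IsLocalization.algEquiv p.primeCompl (X.presheaf.stalk y) (Localization.AtPrime p)).toRingEquiv
    set c := ((C.Q s).coeff i).coeff α
    let hDU : X.basicOpen r ≤ U ⊓ C.Vt := le_inf ((X.basicOpen_le r).trans hWU) (hr.trans inf_le_right)
    have hint : IsIntegral Γ(X, W) (rh hDU c) := by
      obtain ⟨q, hq, hq0⟩ := C.coeff_integral hU s i α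
      refine ⟨q.map (rh hWU), hq.map _, ?_⟩
      have e1 : (algebraMap Γ(X, W) Γ(X, X.basicOpen r)).comp (rh hWU) = (rh hDU).comp (rh inf_le_left) :=
        RingHom.ext fun a => (rh_rh _ _ a).trans (rh_rh _ _ a).symm
      rw [Polynomial.eval₂_map, e1, ← Polynomial.hom_eval₂, hq0, map_zero]
    obtain ⟨t, a, htp, hta⟩ := exists_denominator hr0 p hint
    have hOW : X.basicOpen t ≤ W := X.basicOpen_le t
    have hyO : y ∈ X.basicOpen t := by
      have h : hW.primeIdealOf ⟨y, hyW⟩ ∈ hW.fromSpec ⁻¹ᵁ X.basicOpen t := by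
        rw [hW.fromSpec_preimage_basicOpen]; exact htp
      have h' : hW.fromSpec (hW.primeIdealOf ⟨y, hyW⟩) ∈ X.basicOpen t := h
      rwa [hW.fromSpec_primeIdealOf] at h'
    obtain ⟨τ, hτ⟩ := (show IsUnit (rh hOW t) from RingedSpace.isUnit_res_basicOpen X.toRingedSpace t).exists_right_inv
    refine ⟨_, hOW.trans hWU, rh hOW a * τ, hyO, ?_⟩
    let O' : X.Opens := X.basicOpen t ⊓ C.Vt ⊓ X.basicOpen r
    refine eq_of_generic (inf_le_left : O' ≤ X.basicOpen t ⊓ C.Vt)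
      (fun η' hη' hmem => ⟨hmem, mem_of_nonempty hW hr0 hη' (hOW hmem.1)⟩) ?_
    have h1 : rh (inf_le_right : O' ≤ X.basicOpen r) (rh (X.basicOpen_le r) a) =
        rh (inf_le_right : O' ≤ X.basicOpen r) (rh (X.basicOpen_le r) t * rh hDU c) := congrArg _ hta
    have h2 := congrArg (rh (inf_le_left.trans inf_le_left : O' ≤ X.basicOpen t)) hτ
    simp only [map_mul, map_one, rh_rh] at h1 h2 ⊢
    rw [h1, mul_right_comm, h2, one_mul]
  · -- free
    let O : X.Opens := U ⊓ T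
    letI := (g.app O).hom.toAlgebra
    let Mf : Fin k → Matrix (Fin n) (Fin n) Γ(X, O) := fun l =>
      Algebra.leftMulMatrix (hc.basis (inf_le_right : O ≤ T)).choose (rh (pre_le g inf_le_left) (s l))
    refine ⟨O, inf_le_left, ((GP Mf (C.m / n)).coeff i).coeff α, ⟨hy, hyT⟩, C.ext_resA fun a => ?_⟩
    rcases subsingleton_or_nontrivial Γ(X, O ⊓ C.V a) with hsub | hnt
    · exact Subsingleton.elim _ _
    have hn : n = C.n a := eq_rank hc (C.good a) (V := O ⊓ C.V a) (inf_le_left.trans inf_le_right) inf_le_right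
    subst hn
    letI := (g.app (O ⊓ C.V a)).hom.toAlgebra
    obtain ⟨P, hP⟩ := exists_conj (hc.basis (inf_le_left.trans inf_le_right : O ⊓ C.V a ≤ T)).choose
      (C.exists_bas a (inf_le_right : O ⊓ C.V a ≤ C.V a)).choose
    have hmat : ∀ l, P.val * (Mf l).map (rh (inf_le_left : O ⊓ C.V a ≤ O)) * P⁻¹.val =
        C.mat a inf_le_right (rh (pre_le g inf_le_left) (rh (pre_le g (inf_le_left : O ≤ U)) (s l))) := by
      intro l
      rw [← leftMulMatrix_map (hc.basis (inf_le_right : O ≤ T)).choose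
        (hc.basis (inf_le_left.trans inf_le_right : O ⊓ C.V a ≤ T)).choose (rh inf_le_left)
        (rh (pre_le g (inf_le_left : O ⊓ C.V a ≤ O))) (fun r => (app_rh _ r).symm) (fun j => by
          rw [(hc.basis (inf_le_right : O ≤ T)).choose_spec,
            (hc.basis (inf_le_left.trans inf_le_right : O ⊓ C.V a ≤ T)).choose_spec]
          exact rh_rh _ _ _), ← hP]
      rfl
    have key : (GP Mf (C.m / C.n a)).map (MvPolynomial.map (rh (inf_le_left : O ⊓ C.V a ≤ O))) =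
        (C.Q fun l => rh (pre_le g (inf_le_left : O ≤ U)) (s l)).map (MvPolynomial.map (C.resA O a)) := by
      rw [C.Q_spec, show C.mt (fun l => rh (pre_le g (inf_le_left : O ≤ U)) (s l)) a = fun l =>
        P.val * (Mf l).map (rh (inf_le_left : O ⊓ C.V a ≤ O)) * P⁻¹.val from funext fun l => (hmat l).symm,
        GP_conj, GP_map_eq, GP, MT_map]
      congr 2
      simp only [MT, MvPolynomial.map_X, MvPolynomial.map_C]
      refine Finset.sum_congr rfl fun l _ => congrArg _ ?_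
      rw [Matrix.map_map]
      rfl
    have h3 := congrArg (fun p => (p.coeff i).coeff α) key
    rw [C.Q_res (inf_le_left : O ≤ U)] at h3
    simp only [Polynomial.coeff_map, MvPolynomial.coeff_map] at h3
    rw [resA, rh_rh]
    exact h3

theorem mem_range_of_good {U : X.Opens} (hU : IsAffineOpen U) (hgood : ∀ y ∈ U, Good g y)
    {c : Γ(X, U ⊓ C.Vt)} (hc : c ∈ C.sub U) : ∃ r, rh (inf_le_left : U ⊓ C.Vt ≤ U) r = c := by
  suffices C.sub U ≤ (rh (inf_le_left : U ⊓ C.Vt ≤ U)).range from this hc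
  refine Subring.closure_le.2 ?_
  rintro c (⟨r, rfl⟩ | ⟨k, s, i, α, rfl⟩)
  · exact ⟨r, rfl⟩
  choose O hOU γ hyO hγ using fun y : U => C.exists_extend hU y.2 (hgood y y.2) s i α
  obtain ⟨r, hr, -⟩ := X.sheaf.existsUnique_gluing' O U (fun y => homOfLE (hOU y))
    (fun y hy => Opens.mem_iSup.2 ⟨⟨y, hy⟩, hyO ⟨y, hy⟩⟩) γ fun y z => by
      show rh (inf_le_left : O y ⊓ O z ≤ O y) (γ y) = rh inf_le_right (γ z)
      refine C.rh_injective _ ?_
      rw [rh_rh, rh_rh, ← rh_rh (inf_le_left : O y ⊓ C.Vt ≤ O y) (inf_le_inf_right _ inf_le_left), hγ,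
        ← rh_rh (inf_le_left : O z ⊓ C.Vt ≤ O z) (inf_le_inf_right _ inf_le_right), hγ, rh_rh, rh_rh]
  refine ⟨r, X.sheaf.eq_of_locally_eq' (fun y => O y ⊓ C.Vt) (U ⊓ C.Vt)
    (fun y => homOfLE (inf_le_inf_right _ (hOU y)))
    (fun y hy => Opens.mem_iSup.2 ⟨⟨y, hy.1⟩, hyO ⟨y, hy.1⟩, hy.2⟩) _ _ fun y => ?_⟩
  show rh _ (rh _ r) = rh _ _
  rw [rh_rh, ← hγ y, ← rh_rh (hOU y) inf_le_left]
  exact congrArg _ (hr y)

theorem isIso_restrict (W : X.Opens) (hgood : ∀ y ∈ W, Good g y) : IsIso (C.h ∣_ W) := by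
  have key : ∀ U : X.Opens, IsAffineOpen U → U ≤ W → IsIso (C.h.app U) := by
    intro U hU hUW
    rw [ConcreteCategory.isIso_iff_bijective]
    refine ⟨fun a b hab => C.rh_injective U ?_, fun z => ?_⟩
    · rw [← C.jhom_app hU, ← C.jhom_app hU, hab]
    · obtain ⟨r, hr⟩ := C.mem_range_of_good hU (fun y hy => hgood y (hUW hy))
        ((C.data.ev U hU).hom z).2
      exact ⟨r, C.jhom_injective hU ((C.jhom_app hU r).trans hr)⟩
  let I := {U : X.affineOpens // U.1 ≤ W}
  have hcov : iSup (fun U : I => W.ι ⁻¹ᵁ U.1.1) = ⊤ := top_le_iff.1 fun x _ => by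
    obtain ⟨_, ⟨U, hU, rfl⟩, hxU, hUW⟩ := X.isBasis_affineOpens.exists_subset_of_mem_open x.2 W.2
    exact Opens.mem_iSup.2 ⟨⟨⟨U, hU⟩, hUW⟩, hxU⟩
  refine (IsZariskiLocalAtTarget.iff_of_iSup_eq_top (P := MorphismProperty.isomorphisms Scheme)
    (fun U : I => W.ι ⁻¹ᵁ U.1.1) hcov).2 fun U => ?_
  have h1 : IsIso (C.h ∣_ U.1.1) := (isIso_morphismRestrict_iff_isIso_app C.h U.1.2).2 (key _ U.1.2 U.2)
  show IsIso ((C.h ∣_ W) ∣_ (W.ι ⁻¹ᵁ U.1.1))
  refine ((MorphismProperty.isomorphisms Scheme).arrow_mk_iso_iff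
    (morphismRestrictRestrict C.h W (W.ι ⁻¹ᵁ U.1.1) ≪≫ morphismRestrictEq C.h ?_)).2 h1
  rw [Scheme.Hom.image_preimage_eq_opensRange_inf, Scheme.Opens.opensRange_ι, inf_eq_right.2 U.2]

instance isIso_Vt : IsIso (C.h ∣_ C.Vt) := C.isIso_restrict C.Vt fun _ hy => C.good_of_mem_Vt hy

theorem isIso_app_of_le {V : X.Opens} (hV : V ≤ C.Vt) : IsIso (C.h.app V) := by
  have h := morphismRestrict_app C.h C.Vt (C.Vt.ι ⁻¹ᵁ V)
  have hVeq : C.Vt.ι ''ᵁ (C.Vt.ι ⁻¹ᵁ V) = V := by
    rw [Scheme.Hom.image_preimage_eq_opensRange_inf, Scheme.Opens.opensRange_ι, inf_eq_right.2 hV]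
  haveI : IsIso ((C.h ∣_ C.Vt).app (C.Vt.ι ⁻¹ᵁ V)) := inferInstance
  rw [h] at this
  haveI := this
  have h2 : IsIso (C.h.app (C.Vt.ι ''ᵁ (C.Vt.ι ⁻¹ᵁ V))) := IsIso.of_isIso_comp_right _
    (C.Z.presheaf.map (eqToHom (image_morphismRestrict_preimage C.h C.Vt (C.Vt.ι ⁻¹ᵁ V))).op)
  rwa [hVeq] at h2

theorem dense_preimage : Dense ((C.h ⁻¹ᵁ C.Vt : C.Z.Opens) : Set C.Z) := by
  haveI := C.isReduced_Z
  refine dense_iff_inter_open.2 fun O hO ⟨x, hx⟩ => ?_
  obtain ⟨_, ⟨U, hU, rfl⟩, hxU, -⟩ := X.isBasis_affineOpens.exists_subset_of_mem_open (Set.mem_univ (C.h x)) isOpen_univ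
  have hW : IsAffineOpen (C.h ⁻¹ᵁ U) := hU.preimage C.h
  obtain ⟨t, ht, hxt⟩ := hW.exists_basicOpen_le (V := ⟨O, hO⟩) ⟨x, hx⟩ hxU
  by_contra hne
  rw [Set.not_nonempty_iff_eq_empty] at hne
  have h0 : rh (pre_le C.h (inf_le_left : U ⊓ C.Vt ≤ U)) t = 0 := by
    refine (basicOpen_eq_bot_iff _).1 (le_bot_iff.1 fun z hz => ?_)
    rw [Scheme.basicOpen_res] at hz
    exact (Set.eq_empty_iff_forall_notMem.1 hne z ⟨ht hz.2, hz.1.2⟩).elim
  rw [C.res_eq_app hU] at h0
  haveI := C.isIso_app_of_le (inf_le_right : U ⊓ C.Vt ≤ C.Vt)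
  have h1 : C.jhom hU t = 0 :=
    (ConcreteCategory.bijective_of_isIso (C.h.app (U ⊓ C.Vt))).1 (h0.trans (map_zero _).symm)
  rw [← map_zero (C.jhom hU)] at h1
  rw [C.jhom_injective hU h1, Scheme.basicOpen_zero] at hxt
  exact hxt

end Charts

end Groth.L06.FiniteModel
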